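import Mathlib
import Cfsg.Prelude.Def_SubgroupEmbedding
import Cfsg.Agent.Lib.BlocksCore.PPart

/-!
# Extremely closed abelian subgroups: elementary properties
-/

set_option autoImplicit false

namespace Cfsg.Agent.ExtClosed29

open Cfsg Subgroup

variable {G : Type*} [Group G] {p : ℕ}

/-- A `p`-group acting on a coset of a `p'`-subgroup fixes a point. -/
theorem exists_fixed_coset [Finite G] [Fact p.Prime] {P D : Subgroup G} (hP : IsPGroup p P)
    (hD : ¬ p ∣ Nat.card D) (hn : ∀ h ∈ P, ∀ d ∈ D, h * d * h⁻¹ ∈ D) {s : G}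
    (hs : ∀ h ∈ P, h * s * h⁻¹ * s⁻¹ ∈ D) : ∃ d ∈ D, ∀ h ∈ P, h * (d * s) = d * s * h := by
  have hmem : ∀ (h : P) (x : G), x * s⁻¹ ∈ D → (h : G) * x * (h : G)⁻¹ * s⁻¹ ∈ D := by
    intro h x hx
    have := mul_mem (hn h h.2 _ hx) (hs h h.2)
    rwa [show (h : G) * (x * s⁻¹) * (h : G)⁻¹ * ((h : G) * s * (h : G)⁻¹ * s⁻¹)
      = (h : G) * x * (h : G)⁻¹ * s⁻¹ by group] at this
  let α := {x : G // x * s⁻¹ ∈ D}
  letI : MulAction P α :=
    { smul := fun h x => ⟨(h : G) * x.1 * (h : G)⁻¹, hmem h x.1 x.2⟩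
      one_smul := fun x => Subtype.ext (show ((1 : P) : G) * x.1 * ((1 : P) : G)⁻¹ = x.1 by simp)
      mul_smul := fun a b x => Subtype.ext
        (show ((a * b : P) : G) * x.1 * ((a * b : P) : G)⁻¹
          = (a : G) * ((b : G) * x.1 * (b : G)⁻¹) * (a : G)⁻¹ by simp [mul_assoc]) }
  have hcard : Nat.card α = Nat.card D :=
    Nat.card_congr ((Equiv.mulRight s⁻¹).subtypeEquiv fun x => Iff.rfl)
  obtain ⟨x, hx⟩ := hP.nonempty_fixed_point_of_prime_not_dvd_card α (hcard ▸ hD)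
  refine ⟨x.1 * s⁻¹, x.2, fun h hh => ?_⟩
  have h1 : h * x.1 * h⁻¹ = x.1 := congrArg Subtype.val (hx ⟨h, hh⟩)
  rw [inv_mul_cancel_right]
  exact mul_inv_eq_iff_eq_mul.mp h1

/-- The fixed point argument inside a `p'`-group without nontrivial fixed points. -/
theorem mem_of_commutator_mem [Finite G] [Fact p.Prime] {P K E : Subgroup G} (hP : IsPGroup p P)
    (hK : ¬ p ∣ Nat.card K) (hnK : ∀ h ∈ P, ∀ k ∈ K, h * k * h⁻¹ ∈ K)
    (hfix : ∀ k ∈ K, (∀ h ∈ P, h * k = k * h) → k = 1)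
    (hnE : ∀ h ∈ P, ∀ d ∈ E, h * d * h⁻¹ ∈ E) {s : G} (hsK : s ∈ K)
    (hs : ∀ h ∈ P, h * s * h⁻¹ * s⁻¹ ∈ E) : s ∈ E := by
  obtain ⟨d, hd, hc⟩ := exists_fixed_coset hP (D := E ⊓ K)
    (fun h => hK (h.trans (card_dvd_of_le inf_le_right)))
    (fun h hh d hd => ⟨hnE h hh d hd.1, hnK h hh d hd.2⟩)
    (fun h hh => mem_inf.mpr ⟨hs h hh, (mul_mem (hnK h hh s hsK) (inv_mem hsK) : _ ∈ K)⟩)
  have h1 := hfix _ (mul_mem hd.2 hsK) hc
  rw [eq_inv_of_mul_eq_one_right h1]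
  exact inv_mem hd.1

/-- `K` is a normal `p`-complement to `H` in `X`, without nontrivial fixed points. -/
structure Split (p : ℕ) (H X K : Subgroup G) : Prop where
  hHX : H ≤ X
  hKX : K ≤ X
  normal : ∀ x ∈ X, ∀ k ∈ K, x * k * x⁻¹ ∈ K
  disj : ∀ x ∈ K, x ∈ H → x = 1
  sup : ∀ x ∈ X, ∃ k ∈ K, ∃ h ∈ H, x = k * h
  cop : ¬ p ∣ Nat.card K
  fix : ∀ k ∈ K, (∀ h ∈ H, h * k = k * h) → k = 1
  syl : ∀ y ∈ X, (∃ k : ℕ, orderOf y = p ^ k) → ∃ x ∈ X, x * y * x⁻¹ ∈ H
  comm : ∀ a ∈ H, ∀ b ∈ H, a * b = b * a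

/-- `w` is the residue in `H` of `x` modulo `K`. -/
def Res (H K : Subgroup G) (x w : G) : Prop := w ∈ H ∧ x * w⁻¹ ∈ K

theorem res_of_mem {H K : Subgroup G} {w : G} (h : w ∈ H) : Res H K w w :=
  ⟨h, by simp⟩

namespace Split

variable {H X K : Subgroup G} (S : Split p H X K)
include S

theorem res_mem {x w : G} (h : Res H K x w) : x ∈ X := by
  have := mul_mem (S.hKX h.2) (S.hHX h.1)
  rwa [inv_mul_cancel_right] at this

theorem exists_res {x : G} (hx : x ∈ X) : ∃ w, Res H K x w := by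
  obtain ⟨k, hk, h, hh, rfl⟩ := S.sup x hx
  exact ⟨h, hh, by simpa using hk⟩

theorem res_mul {x y a b : G} (hx : Res H K x a) (hy : Res H K y b) :
    Res H K (x * y) (a * b) := by
  refine ⟨mul_mem hx.1 hy.1, ?_⟩
  have := mul_mem (S.normal x (S.res_mem hx) _ hy.2) hx.2
  rwa [show x * (y * b⁻¹) * x⁻¹ * (x * a⁻¹) = x * y * (a * b)⁻¹ by group] at this

theorem res_inv {x a : G} (hx : Res H K x a) : Res H K x⁻¹ a⁻¹ := by
  refine ⟨inv_mem hx.1, ?_⟩
  have := S.normal x⁻¹ (inv_mem (S.res_mem hx)) _ (inv_mem hx.2)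
  rwa [show x⁻¹ * (x * a⁻¹)⁻¹ * x⁻¹⁻¹ = x⁻¹ * a⁻¹⁻¹ by group] at this

theorem res_unique {x a b : G} (ha : Res H K x a) (hb : Res H K x b) : a = b := by
  have h := mul_mem (inv_mem ha.2) hb.2
  rw [show (x * a⁻¹)⁻¹ * (x * b⁻¹) = a * b⁻¹ by group] at h
  exact mul_inv_eq_one.mp (S.disj _ h (mul_mem ha.1 (inv_mem hb.1)))

theorem res_pow {x a : G} (hx : Res H K x a) (n : ℕ) : Res H K (x ^ n) (a ^ n) := by
  induction n with
  | zero => simpa using res_of_mem (K := K) (one_mem H)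
  | succ n ih => simpa [pow_succ] using S.res_mul ih hx

theorem res_conj {x y w : G} (hx : x ∈ X) (hy : Res H K y w) :
    Res H K (x * y * x⁻¹) w := by
  obtain ⟨a, ha⟩ := S.exists_res hx
  have h := S.res_mul (S.res_mul ha hy) (S.res_inv ha)
  rwa [S.comm a ha.1 w hy.1, mul_inv_cancel_right] at h

theorem conj_mem {h k : G} (hh : h ∈ H) (hk : k ∈ K) : h * k * h⁻¹ ∈ K :=
  S.normal h (S.hHX hh) k hk

/-- Elements of `X` up to conjugation. -/
theorem exists_conj_eq [Finite G] [hp : Fact p.Prime] (hHp : IsPGroup p H) {y w : G}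
    (hy : Res H K y w) :
    ∃ x ∈ X, ∃ s ∈ K, Commute w s ∧ x * y * x⁻¹ = w * s := by
  have hyX := S.res_mem hy
  obtain ⟨z', v', hzv, hc, hzp, hvp⟩ := BlocksCore.exists_pPart hp.out (⟨y, hyX⟩ : X)
  have hzp' : ∃ k : ℕ, orderOf (z' : G) = p ^ k := by simpa [Subgroup.orderOf_coe] using hzp
  obtain ⟨x, hx, hxz⟩ := S.syl z' z'.2 hzp'
  refine ⟨x, hx, x * v' * x⁻¹, ?_⟩
  have hv'' : ¬ p ∣ orderOf (x * (v' : G) * x⁻¹) := by
    rw [← MulAut.conj_apply, MulEquiv.orderOf_eq, Subgroup.orderOf_coe]; exact hvp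
  obtain ⟨a, ha⟩ := S.exists_res (mul_mem (mul_mem hx v'.2) (inv_mem hx))
  have ha1 : a = 1 := by
    have h1 := S.res_pow ha (orderOf (x * (v' : G) * x⁻¹))
    rw [pow_orderOf_eq_one] at h1
    have h2 := S.res_unique h1 (res_of_mem (one_mem H))
    obtain ⟨k, hk⟩ : ∃ k : ℕ, a ^ p ^ k = 1 := by
      obtain ⟨k, hk⟩ := hHp ⟨a, ha.1⟩
      exact ⟨k, congrArg Subtype.val hk⟩
    have hcop : Nat.Coprime (orderOf (x * (v' : G) * x⁻¹)) (p ^ k) :=
      Nat.Coprime.pow_right _ (Nat.Coprime.symm (hp.out.coprime_iff_not_dvd.mpr hv''))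
    rw [← orderOf_dvd_iff_pow_eq_one] at h2 hk
    rw [← orderOf_eq_one_iff]
    exact Nat.dvd_one.mp (hcop ▸ Nat.dvd_gcd h2 hk)
  have hvK : x * (v' : G) * x⁻¹ ∈ K := by simpa [ha1] using ha.2
  have heq : x * y * x⁻¹ = x * (z' : G) * x⁻¹ * (x * v' * x⁻¹) := by
    rw [show y = (z' : G) * v' from (congrArg Subtype.val hzv).symm]
    group
  have hres : Res H K (x * (z' : G) * x⁻¹ * (x * v' * x⁻¹)) (x * (z' : G) * x⁻¹ * 1) :=
    S.res_mul (res_of_mem hxz) ⟨one_mem H, by simpa using hvK⟩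
  rw [← heq, mul_one] at hres
  have hw := S.res_unique hres (S.res_conj hx hy)
  refine ⟨hvK, ?_, by rw [heq, hw]⟩
  rw [← hw]
  have hc' : Commute (z' : G) (v' : G) := congrArg Subtype.val hc.eq
  exact hc'.map (MulAut.conj x).toMonoidHom

end Split

variable {H : Subgroup G}

theorem normalizer_inf (hcl : IsExtremelyClosed H) {g x : G}
    (hx : x ∈ H ⊔ H.map (MulAut.conj g).toMonoidHom) (hn : x ∈ normalizer (H : Set G)) : x ∈ H :=
  (hcl g).le ⟨hx, hn⟩

/-- `H` is weakly closed in its normalizer. -/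
theorem conj_mem_normalizer (hcl : IsExtremelyClosed H) [Finite G] {g : G}
    (hg : H.map (MulAut.conj g).toMonoidHom ≤ normalizer (H : Set G)) :
    g ∈ normalizer (H : Set G) := by
  have h1 : H.map (MulAut.conj g).toMonoidHom ≤ H := fun x hx =>
    normalizer_inf hcl (mem_sup_right hx) (hg hx)
  exact mem_normalizer_iff_map_conj_eq.mpr
    (Subgroup.eq_of_le_of_card_ge h1 (Nat.card_congr
      (H.equivMapOfInjective _ (MulAut.conj g).injective).toEquiv).le)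

/-- A `p`-subgroup containing `H` normalises it. -/
theorem le_normalizer_of_isPGroup [Finite G] [Fact p.Prime] (hcl : IsExtremelyClosed H)
    {P : Subgroup G} (hP : IsPGroup p P) (hHP : H ≤ P) : P ≤ normalizer (H : Set G) := by
  by_contra hne
  have hlt : (normalizer (H : Set G) ⊓ P).subgroupOf P < ⊤ := by
    rw [lt_top_iff_ne_top, Ne, subgroupOf_eq_top]
    exact fun h => hne (h.trans inf_le_left)
  have := hP.isNilpotent
  have h2 := Group.normalizerCondition_of_isNilpotent (G := P) _ hlt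
  obtain ⟨x, hxn, hxM⟩ := SetLike.exists_of_lt h2
  refine hxM ⟨conj_mem_normalizer hcl ?_, x.2⟩
  rintro _ ⟨h, hh, rfl⟩
  have hmem : (⟨h, hHP hh⟩ : P) ∈ (normalizer (H : Set G) ⊓ P).subgroupOf P :=
    ⟨le_normalizer hh, hHP hh⟩
  exact ((mem_normalizer_iff.mp hxn _).mp hmem).1

/-- An abelian `p`-subgroup which is self-normalizing in `X` and maximal among the `p`-subgroups
of `X` has a normal complement in `X`. -/
theorem exists_split_sub [Finite G] [Fact p.Prime] (hHp : IsPGroup p H)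
    (hcomm : ∀ a ∈ H, ∀ b ∈ H, a * b = b * a) {X : Subgroup G} (hHX : H ≤ X)
    (hNX : ∀ x ∈ X, x ∈ normalizer (H : Set G) → x ∈ H)
    (hmax : ∀ Q : Subgroup G, IsPGroup p Q → H ≤ Q → Q ≤ normalizer (H : Set G)) :
    ∃ K : Subgroup G, Split p H X K ∧
      ∀ Q : Subgroup G, IsPGroup p Q → Q ≤ X → ∃ x ∈ X, ∀ y ∈ Q, x * y * x⁻¹ ∈ H := by
  obtain ⟨P, hPdef⟩ : ∃ P : Sylow p X, (P : Subgroup X) = H.subgroupOf X :=
    ⟨{ toSubgroup := H.subgroupOf X
       isPGroup' := hHp.comap_of_injective X.subtype X.subtype_injective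
       is_maximal' := fun {Q} hQ hle => by
         refine le_antisymm (fun x hx => ?_) hle
         have h1 : H ≤ Q.map X.subtype := fun h hh => ⟨⟨h, hHX hh⟩, hle hh, rfl⟩
         exact hNX x x.2 (hmax (Q.map X.subtype) (hQ.map X.subtype) h1
           (mem_map_of_mem X.subtype hx)) }, rfl⟩
  have hPmem : ∀ x : X, x ∈ (P : Subgroup X) ↔ (x : G) ∈ H := fun x => by
    rw [hPdef, mem_subgroupOf]
  have hP : normalizer ((P : Subgroup X) : Set X) ≤ centralizer ((P : Subgroup X) : Set X) := by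
    intro x hx
    have hxN : (x : G) ∈ normalizer (H : Set G) := by
      rw [hPdef, ← subgroupOf_normalizer_eq hHX, mem_subgroupOf] at hx
      exact hx
    exact mem_centralizer_iff.mpr fun y hy =>
      Subtype.ext (hcomm y ((hPmem y).mp hy) x (hNX x x.2 hxN))
  obtain ⟨K₀, hK₀n, hc, hcop⟩ : ∃ K₀ : Subgroup X, K₀.Normal ∧
      IsComplement' K₀ (P : Subgroup X) ∧ ¬ p ∣ Nat.card K₀ :=
    ⟨_, MonoidHom.normal_ker _, MonoidHom.ker_transferSylow_isComplement' P hP,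
      MonoidHom.not_dvd_card_ker_transferSylow P hP⟩
  have hsyl : ∀ Q : Subgroup G, IsPGroup p Q → Q ≤ X → ∃ x ∈ X, ∀ y ∈ Q, x * y * x⁻¹ ∈ H := by
    intro Q hQ hQX
    obtain ⟨R, hR⟩ := (hQ.comap_of_injective X.subtype X.subtype_injective).exists_le_sylow
    obtain ⟨x, hx⟩ := MulAction.exists_smul_eq X R P
    refine ⟨x, x.2, fun y hy => ?_⟩
    have hm : x * ⟨y, hQX hy⟩ * x⁻¹ ∈ ((x • R : Sylow p X) : Subgroup X) :=
      ⟨⟨y, hQX hy⟩, hR hy, rfl⟩
    rw [hx] at hm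
    exact (hPmem _).mp hm
  have hdisj : ∀ k ∈ K₀, (k : G) ∈ H → k = 1 := fun k hk hkH =>
    disjoint_def.mp hc.disjoint hk ((hPmem k).mpr hkH)
  refine ⟨K₀.map X.subtype,
    { hHX := hHX
      hKX := map_subtype_le _
      normal := ?_
      disj := ?_
      sup := ?_
      cop := ?_
      fix := ?_
      syl := ?_
      comm := hcomm }, hsyl⟩
  · rintro x hx _ ⟨k, hk, rfl⟩
    exact ⟨⟨x, hx⟩ * k * ⟨x, hx⟩⁻¹, hK₀n.conj_mem k hk _, rfl⟩
  · rintro _ ⟨k, hk, rfl⟩ hkH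
    rw [hdisj k hk hkH, map_one]
  · intro x hx
    obtain ⟨⟨k, h⟩, e⟩ := hc.2 ⟨x, hx⟩
    exact ⟨(k.1 : G), ⟨k.1, k.2, rfl⟩, (h.1 : G), (hPmem _).mp h.2,
      (congrArg Subtype.val e).symm⟩
  · rw [← Nat.card_congr (K₀.equivMapOfInjective _ X.subtype_injective).toEquiv]
    exact hcop
  · rintro _ ⟨k, hk, rfl⟩ hfix
    have hkc : (k : G) ∈ centralizer (H : Set G) :=
      mem_centralizer_iff.mpr fun h hh => hfix h hh
    rw [hdisj k hk (hNX k k.2 (centralizer_le_normalizer _ hkc)), map_one]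
  · rintro y hy ⟨k, hk⟩
    obtain ⟨x, hxX, hx⟩ := hsyl (zpowers y) (IsPGroup.of_card (n := k) (by
      rw [Nat.card_zpowers, hk])) (zpowers_le.mpr hy)
    exact ⟨x, hxX, hx y (mem_zpowers y)⟩

/-- The subgroup generated by `H` and a conjugate is split, and the conjugating element may be
changed to one normalising `H`. -/
theorem exists_split [Finite G] [Fact p.Prime] (hHp : IsPGroup p H) (hHab : IsMulCommutative H)
    (hcl : IsExtremelyClosed H) (g : G) :
    ∃ K : Subgroup G, ∃ n ∈ normalizer (H : Set G),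
      Split p H (H ⊔ H.map (MulAut.conj g).toMonoidHom) K ∧ g * n⁻¹ ∈ K ∧
      ∀ t ∈ H, Res H K (g * t * g⁻¹) (n * t * n⁻¹) := by
  have hcomm : ∀ a ∈ H, ∀ b ∈ H, a * b = b * a := fun a ha b hb =>
    congrArg Subtype.val (hHab.is_comm.comm (⟨a, ha⟩ : H) ⟨b, hb⟩)
  obtain ⟨K, S, hsyl⟩ := exists_split_sub hHp hcomm
    (X := H ⊔ H.map (MulAut.conj g).toMonoidHom) le_sup_left
    (fun x hx hn => normalizer_inf hcl hx hn)
    (fun Q hQ h => le_normalizer_of_isPGroup hcl hQ h)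
  obtain ⟨x, hxX, hx⟩ := hsyl (H.map (MulAut.conj g).toMonoidHom) (hHp.map _) le_sup_right
  obtain ⟨k, hk, h, hh, hxe⟩ := S.sup x⁻¹ (inv_mem hxX)
  have hxg : x * g ∈ normalizer (H : Set G) := by
    refine conj_mem_normalizer hcl ?_
    rintro _ ⟨t, ht, rfl⟩
    refine le_normalizer ?_
    show x * g * t * (x * g)⁻¹ ∈ H
    have e : x * g * t * (x * g)⁻¹ = x * (g * t * g⁻¹) * x⁻¹ := by group
    rw [e]
    exact hx _ ⟨t, ht, rfl⟩
  have hn : h * (x * g) ∈ normalizer (H : Set G) := mul_mem (le_normalizer hh) hxg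
  have e0 : k = x⁻¹ * h⁻¹ := by rw [hxe, mul_inv_cancel_right]
  refine ⟨K, h * (x * g), hn, S, ?_, ?_⟩
  · have e : g * (h * (x * g))⁻¹ = k := by rw [e0]; group
    rw [e]
    exact hk
  · intro t ht
    have hu := (mem_normalizer_iff.mp hn t).mp ht
    have e : g * t * g⁻¹ = k * (h * (x * g) * t * (h * (x * g))⁻¹) * k⁻¹ := by
      rw [e0]; group
    rw [e]
    exact S.res_conj (S.hKX hk) (res_of_mem hu)

/-- Extreme closure passes to subgroups containing `H`. -/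
theorem subgroupOf (hcl : IsExtremelyClosed H) {R : Subgroup G} (hR : H ≤ R) :
    IsExtremelyClosed (H.subgroupOf R) := by
  intro r
  refine Subgroup.map_injective R.subtype_injective ?_
  rw [Subgroup.map_inf _ _ _ R.subtype_injective, Subgroup.map_sup, Subgroup.map_map,
    ← subgroupOf_normalizer_eq hR, subgroupOf_map_subtype, subgroupOf_map_subtype,
    inf_eq_left.mpr hR]
  have e : (R.subtype.comp (MulAut.conj r).toMonoidHom)
      = (MulAut.conj (r : G)).toMonoidHom.comp R.subtype := by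
    ext x
    simp
  rw [e, ← Subgroup.map_map, subgroupOf_map_subtype, inf_eq_left.mpr hR]
  have h2 : H ⊔ H.map (MulAut.conj (r : G)).toMonoidHom ≤ R :=
    sup_le hR (by
      rintro _ ⟨t, ht, rfl⟩
      exact mul_mem (mul_mem r.2 (hR ht)) (inv_mem r.2))
  rw [← inf_assoc, inf_right_comm, inf_eq_left.mpr h2]
  exact hcl r

/-- Extreme closure passes to quotients by subgroups of `H`. -/
theorem map_of_ker_le (hcl : IsExtremelyClosed H) {Q : Type*} [Group Q] (f : G →* Q)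
    (hf : Function.Surjective f) (hker : f.ker ≤ H) : IsExtremelyClosed (H.map f) := by
  intro q
  obtain ⟨g, rfl⟩ := hf q
  have e : (MulAut.conj (f g)).toMonoidHom.comp f = f.comp (MulAut.conj g).toMonoidHom := by
    ext x
    simp
  refine comap_injective hf ?_
  rw [Subgroup.comap_inf, Subgroup.map_map, e, ← Subgroup.map_map, ← Subgroup.map_sup,
    comap_map_eq_self (hker.trans le_sup_left), comap_normalizer_eq_of_surjective _ hf,
    comap_map_eq_self hker]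
  exact hcl g

theorem comap_normalizer_map {Q : Type*} [Group Q] (f : G →* Q) (hf : Function.Surjective f)
    (hker : f.ker ≤ H) :
    (normalizer ((H.map f : Subgroup Q) : Set Q)).comap f = normalizer (H : Set G) := by
  rw [comap_normalizer_eq_of_surjective _ hf, comap_map_eq_self hker]

end Cfsg.Agent.ExtClosed29
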