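import Cfsg.Agent.ExtClosed29.Basic
import Cfsg.Agent.CharDeep.Ext.Avg
import Cfsg.Agent.Lib.CharCore.ModP
import Cfsg.Agent.Lib.CharCore.Linear
import Cfsg.Agent.Lib.BlocksCore.WeakOrth
import Cfsg.Agent.Lib.BlocksCore.DefectZero

/-!
# The sum of a character over an extremely closed abelian `p`-subgroup
-/

set_option autoImplicit false
set_option linter.unusedSectionVars false

namespace Cfsg.Agent.ExtClosed29

open Cfsg Subgroup
open scoped ComplexConjugate Classical

variable {p : ℕ}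

/-- Conjugation action of a subgroup on a subgroup it normalises. -/
@[reducible] def conjSubAction {G : Type*} [Group G] (P D : Subgroup G)
    (hPD : ∀ h ∈ P, ∀ d ∈ D, h * d * h⁻¹ ∈ D) : MulAction P D where
  smul a x := ⟨(a : G) * x * (a : G)⁻¹, hPD a a.2 x x.2⟩
  one_smul x := Subtype.ext (show ((1 : P) : G) * x * ((1 : P) : G)⁻¹ = (x : G) by simp)
  mul_smul a b x := Subtype.ext
    (show ((a * b : P) : G) * x * ((a * b : P) : G)⁻¹
      = (a : G) * ((b : G) * x * (b : G)⁻¹) * (a : G)⁻¹ by simp [mul_assoc])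

/-- An invariant irreducible character of a `p'`-group is trivial on a normal subgroup without
nontrivial fixed points. -/
theorem kernel_of_fixfree {G : Type*} [Group G] [Fintype G] [hp : Fact p.Prime] {K D P : Subgroup G}
    (hP : IsPGroup p P) (hK : ¬ p ∣ Nat.card K) (hDK : D ≤ K)
    (hKD : ∀ k ∈ K, ∀ d ∈ D, k * d * k⁻¹ ∈ D) (hPD : ∀ h ∈ P, ∀ d ∈ D, h * d * h⁻¹ ∈ D)
    (hfix : ∀ d ∈ D, (∀ h ∈ P, h * d = d * h) → d = 1) (θ : IrrCharacter K)
    (hinv : ∀ h ∈ P, ∀ k k' : K, (k' : G) = h * k * h⁻¹ → (θ : K → ℂ) k' = (θ : K → ℂ) k)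
    (d : K) (hd : (d : G) ∈ D) : (θ : K → ℂ) d = (θ : K → ℂ) 1 := by
  haveI : (D.subgroupOf K).Normal := ⟨fun d hd k => hKD k k.2 d hd⟩
  rcases CharDeep.Ext.avg_irr (D.subgroupOf K) θ with h | h
  · have := CharDeep.Ext.avg_mul_left (D.subgroupOf K) (θ : K → ℂ) ⟨d, hd⟩ 1
    rw [h, mul_one] at this
    exact this
  · exfalso
    letI := conjSubAction P D hPD
    have h0 : ∑ x : D, (θ : K → ℂ) ⟨x, hDK x.2⟩ = 0 := by
      have h1 := congrFun h 1
      rw [CharDeep.Ext.avg_apply, Pi.zero_apply, mul_eq_zero, or_iff_right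
        (inv_ne_zero (CharDeep.Ext.natCard_ne _))] at h1
      refine Eq.trans ?_ h1
      refine Fintype.sum_equiv (subgroupOfEquivOfLe hDK).toEquiv.symm _ _ fun x => ?_
      rw [mul_one]
      rfl
    have h2 := CharCore.modP_sum_sub_sum_fixed (X := D) hP (fun x => (θ : K → ℂ) ⟨x, hDK x.2⟩)
      (fun x => BlocksCore.isIntegral_irr θ _) (fun a x => hinv a a.2 _ _ rfl)
    replace h2 : CharCore.ModP p (-(θ : K → ℂ) ⟨((1 : D) : G), hDK (1 : D).2⟩) := by
      rw [← zero_sub]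
      convert h2 using 2
      · exact h0.symm
      · symm
        apply Finset.sum_eq_single
        · intro x hx hx1
          simp only [Finset.mem_filter, Finset.mem_univ, true_and] at hx
          refine absurd (Subtype.ext (hfix x x.2 fun a ha => ?_)) hx1
          exact mul_inv_eq_iff_eq_mul.mp (congrArg Subtype.val (hx ⟨a, ha⟩))
        · intro h1
          simp only [Finset.mem_filter, Finset.mem_univ, true_and] at h1
          refine absurd (fun a => ?_) h1
          exact Subtype.ext (show (a : G) * ((1 : D) : G) * (a : G)⁻¹ = ((1 : D) : G) by simp)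
    have h3 := h2.neg
    rw [neg_neg, show (⟨((1 : D) : G), hDK (1 : D).2⟩ : K) = 1 from rfl, BlocksCore.irr_one_eq,
      CharCore.modP_natCast_iff] at h3
    exact hK (h3.trans (BlocksCore.charDegree_dvd_card θ))

section Positivity

variable {G : Type*} [Group G] [Fintype G]

theorem sum_translate (ψ : IrrCharacter G) (u : G) :
    ∑ g : G, (ψ : G → ℂ) g⁻¹ * (ψ : G → ℂ) (g * u) =
      (Nat.card G : ℂ) / (ψ : G → ℂ) 1 * (ψ : G → ℂ) u := by
  obtain ⟨f, n, ρ, hρ, rfl⟩ := ψ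
  have ha : IsClassFunction G (fun g => ρ.character g⁻¹) := fun g h => by
    show ρ.character (h * g * h⁻¹)⁻¹ = ρ.character g⁻¹
    rw [show (h * g * h⁻¹)⁻¹ = h * g⁻¹ * h⁻¹ by group, Representation.char_conj]
  have h := congrArg (fun T => LinearMap.trace ℂ _ (T * ρ u))
    (BlocksCore.sum_smul_eq_omega_smul ρ ha)
  simp only [Finset.sum_mul, smul_mul_assoc, one_mul, map_sum, map_smul, smul_eq_mul, ← map_mul]
    at h
  have h2 : ∑ g, ρ.character g⁻¹ * ρ.character g = (Nat.card G : ℂ) :=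
    (Finset.sum_congr rfl fun g _ => mul_comm _ _).trans
      (CharClifford.sum_character_mul_inv ρ)
  rw [BlocksCore.omega_eq_sum, h2] at h
  exact h

/-- Positivity of a Gram sum of an irreducible character. -/
theorem re_gram_nonneg (ψ : IrrCharacter G) {ι : Type*} [Fintype ι] (a : ι → ℂ) (x : ι → G) :
    0 ≤ (∑ i, ∑ j, a i * conj (a j) * (ψ : G → ℂ) (x i * (x j)⁻¹)).re := by
  set d := charDegree (ψ : G → ℂ) with hd
  have hd0 : (d : ℂ) ≠ 0 := Nat.cast_ne_zero.mpr (BlocksCore.charDegree_pos ψ).ne'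
  have hn0 : (Nat.card G : ℂ) ≠ 0 := Nat.cast_ne_zero.mpr Nat.card_pos.ne'
  have key : ∀ i j, (ψ : G → ℂ) (x i * (x j)⁻¹) =
      ((d / Nat.card G : ℝ) : ℂ) *
        ∑ z, (ψ : G → ℂ) (x i * z) * conj ((ψ : G → ℂ) (x j * z)) := by
    intro i j
    have h1 : ∑ z, (ψ : G → ℂ) (x i * z) * conj ((ψ : G → ℂ) (x j * z)) =
        (Nat.card G : ℂ) / d * (ψ : G → ℂ) (x i * (x j)⁻¹) := by
      rw [hd, ← BlocksCore.irr_one_eq, ← sum_translate]
      refine Fintype.sum_equiv (Equiv.mulLeft (x j)) _ _ fun z => ?_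
      rw [BlocksCore.conj_irr, Equiv.coe_mulLeft, mul_comm]
      rw [show x j * z * (x i * (x j)⁻¹) = x j * (z * x i) * (x j)⁻¹ by group,
        BlocksCore.irr_class ψ, ← BlocksCore.irr_class ψ (z * x i) z⁻¹]
      group
    rw [h1]
    push_cast
    field_simp
  have e : ∑ i, ∑ j, a i * conj (a j) * (ψ : G → ℂ) (x i * (x j)⁻¹) =
      ((d / Nat.card G : ℝ) : ℂ) * ∑ z,
        (∑ i, a i * (ψ : G → ℂ) (x i * z)) * conj (∑ i, a i * (ψ : G → ℂ) (x i * z)) := by
    simp only [key, map_sum, map_mul, Finset.sum_mul, Finset.mul_sum]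
    conv_lhs => rw [Finset.sum_comm]
    conv_rhs => rw [Finset.sum_comm]
    refine Finset.sum_congr rfl fun i _ => ?_
    conv_rhs => rw [Finset.sum_comm]
    exact Finset.sum_congr rfl fun j _ => Finset.sum_congr rfl fun z _ => by ring
  rw [e, Complex.re_ofReal_mul]
  refine mul_nonneg (by positivity) ?_
  rw [Complex.re_sum]
  refine Finset.sum_nonneg fun z _ => ?_
  rw [Complex.mul_conj, Complex.ofReal_re]
  exact Complex.normSq_nonneg _

theorem sum_pairs_div {L M : Subgroup G} (h : L ≤ M) (f : G → ℂ) :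
    ∑ a : L, ∑ b : M, f ((a : G) * (b : G)⁻¹) = (Nat.card L : ℂ) * ∑ b : M, f b := by
  refine (Finset.sum_congr rfl (g := fun _ : L => ∑ b : M, f b) fun a _ => ?_).trans (by simp)
  exact Fintype.sum_equiv ((Equiv.inv M).trans (Equiv.mulLeft (⟨a, h a.2⟩ : M))) _ _ fun b => by simp

theorem sum_pairs_div' {L M : Subgroup G} (h : L ≤ M) (f : G → ℂ) :
    ∑ b : M, ∑ a : L, f ((b : G) * (a : G)⁻¹) = (Nat.card L : ℂ) * ∑ b : M, f b := by
  rw [Finset.sum_comm]
  refine (Finset.sum_congr rfl (g := fun _ : L => ∑ b : M, f b) fun a _ => ?_).trans (by simp)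
  exact Fintype.sum_equiv (Equiv.mulRight (⟨a, h a.2⟩ : M)⁻¹) _ _ fun b => by simp

/-- The average of an irreducible character over a subgroup decreases with the subgroup. -/
theorem re_sum_div_anti (ψ : IrrCharacter G) {L M : Subgroup G} (h : L ≤ M) :
    (∑ b : M, (ψ : G → ℂ) b).re / Nat.card M ≤ (∑ a : L, (ψ : G → ℂ) a).re / Nat.card L := by
  have hl : (Nat.card L : ℂ) ≠ 0 := Nat.cast_ne_zero.mpr Nat.card_pos.ne'
  have hm : (Nat.card M : ℂ) ≠ 0 := Nat.cast_ne_zero.mpr Nat.card_pos.ne'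
  have h1 := re_gram_nonneg ψ
    (Sum.elim (fun _ : L => (Nat.card L : ℂ)⁻¹) (fun _ : M => -(Nat.card M : ℂ)⁻¹))
    (Sum.elim (fun a : L => (a : G)) (fun b : M => (b : G)))
  simp only [Fintype.sum_sum_type, Sum.elim_inl, Sum.elim_inr, map_inv₀, map_neg,
    Complex.conj_natCast, Finset.sum_add_distrib, ← Finset.mul_sum,
    sum_pairs_div le_rfl (ψ : G → ℂ), sum_pairs_div h (ψ : G → ℂ),
    sum_pairs_div' h (ψ : G → ℂ)] at h1
  have e : (Nat.card L : ℂ)⁻¹ * (Nat.card L : ℂ)⁻¹ * ((Nat.card L : ℂ) * ∑ a : L, (ψ : G → ℂ) a) +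
      -(Nat.card M : ℂ)⁻¹ * (Nat.card L : ℂ)⁻¹ * ((Nat.card L : ℂ) * ∑ b : M, (ψ : G → ℂ) b) +
      ((Nat.card L : ℂ)⁻¹ * -(Nat.card M : ℂ)⁻¹ * ((Nat.card L : ℂ) * ∑ b : M, (ψ : G → ℂ) b) +
      -(Nat.card M : ℂ)⁻¹ * -(Nat.card M : ℂ)⁻¹ * ((Nat.card M : ℂ) * ∑ b : M, (ψ : G → ℂ) b)) =
      ((Nat.card L : ℝ) : ℂ)⁻¹ * ∑ a : L, (ψ : G → ℂ) a -
        ((Nat.card M : ℝ) : ℂ)⁻¹ * ∑ b : M, (ψ : G → ℂ) b := by
    push_cast
    field_simp
    ring
  rw [e, ← Complex.ofReal_inv, ← Complex.ofReal_inv, Complex.sub_re, Complex.re_ofReal_mul,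
    Complex.re_ofReal_mul] at h1
  rw [div_eq_inv_mul, div_eq_inv_mul]
  linarith

/-- The sum over two subgroups given by homomorphisms is nonnegative. -/
theorem re_sum_prod_nonneg (ψ : IrrCharacter G) {A B : Type*} [Group A] [Fintype A] [Group B]
    [Fintype B] (α : A →* G) (β : B →* G) :
    0 ≤ (∑ a, ∑ b, (ψ : G → ℂ) (α a * β b)).re := by
  have h1 := re_gram_nonneg ψ (fun _ : A × B => (1 : ℂ)) fun x => α x.1 * β x.2
  have e : ∑ i : A × B, ∑ j : A × B,
      (1 : ℂ) * conj (1 : ℂ) * (ψ : G → ℂ) (α i.1 * β i.2 * (α j.1 * β j.2)⁻¹) =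
      (((Nat.card A * Nat.card B : ℕ) : ℝ) : ℂ) * ∑ a, ∑ b, (ψ : G → ℂ) (α a * β b) := by
    simp only [map_one, one_mul, Fintype.sum_prod_type]
    have hb : ∀ (c : A) (d : B), ∑ a, ∑ b, (ψ : G → ℂ) (α a * β b * (α c * β d)⁻¹) =
        ∑ a, ∑ b, (ψ : G → ℂ) (α a * β b) := by
      intro c d
      refine Fintype.sum_equiv (Equiv.mulLeft c⁻¹) _ _ fun a => ?_
      refine Fintype.sum_equiv (Equiv.mulRight d⁻¹) _ _ fun b => ?_
      simp only [Equiv.coe_mulLeft, Equiv.coe_mulRight]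
      rw [← BlocksCore.irr_class ψ (α (c⁻¹ * a) * β (b * d⁻¹)) (α c)]
      congr 1
      rw [map_mul, map_inv, map_mul, map_inv]
      group
    rw [Finset.sum_congr rfl fun a _ => Finset.sum_comm, Finset.sum_comm,
      Finset.sum_congr rfl fun c _ => (Finset.sum_congr rfl fun a _ => Finset.sum_comm).trans
        Finset.sum_comm]
    simp only [hb, Finset.sum_const, Finset.card_univ, nsmul_eq_mul, Nat.card_eq_fintype_card]
    push_cast
    ring
  rw [e, Complex.re_ofReal_mul] at h1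
  have : (0 : ℝ) < ((Nat.card A * Nat.card B : ℕ) : ℝ) := by
    exact_mod_cast Nat.mul_pos Nat.card_pos Nat.card_pos
  exact (mul_nonneg_iff_of_pos_left this).mp h1

end Positivity

section Twist

variable {Y : Type*} [Group Y] [Fintype Y]

/-- Restriction to a normal subgroup of prime index. -/
theorem vanish_or_norm [Fact p.Prime] (N : Subgroup Y) [N.Normal] (hidx : N.index = p)
    (η : IrrCharacter Y) :
    (∀ y, y ∉ N → (η : Y → ℂ) y = 0) ∨
      ∑ y : N, (η : Y → ℂ) y * conj ((η : Y → ℂ) y) = (Nat.card N : ℂ) := by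
  by_cases hv : ∀ y, y ∉ N → (η : Y → ℂ) y = 0
  · exact Or.inl hv
  right
  push Not at hv
  obtain ⟨y₀, hy₀, hne⟩ := hv
  haveI : NeZero p := ⟨(Fact.out : p.Prime).ne_zero⟩
  have hc : Nat.card (Y ⧸ N) = p := hidx
  let e : (Y ⧸ N) ≃* Multiplicative (ZMod p) := mulEquivOfPrimeCardEq hc (by simp)
  let π : Y →* Multiplicative (ZMod p) := e.toMonoidHom.comp (QuotientGroup.mk' N)
  let lam : ZMod p → (Y →* ℂˣ) := fun i =>
    (((ZMod.stdAddChar (N := p)).mulShift i).toMonoidHom.comp π).toHomUnits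
  have hlam : ∀ i y, (lam i y : ℂ) = ZMod.stdAddChar (Multiplicative.toAdd (π y) * i) := fun i y => by
    show ZMod.stdAddChar (i * Multiplicative.toAdd (π y)) = _
    rw [mul_comm]
  have hπ : ∀ y, Multiplicative.toAdd (π y) = 0 ↔ y ∈ N := fun y => by
    rw [← QuotientGroup.eq_one_iff, ← toAdd_one (α := ZMod p), Multiplicative.toAdd.apply_eq_iff_eq]
    exact map_eq_one_iff e e.injective
  have hsum : ∀ y, ∑ i, (lam i y : ℂ) = if y ∈ N then (p : ℂ) else 0 := by
    intro y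
    simp only [hlam]
    have h := AddChar.sum_mulShift (Multiplicative.toAdd (π y))
      (ZMod.isPrimitive_stdAddChar p)
    rw [ZMod.card] at h
    push_cast at h
    rw [Finset.sum_congr rfl fun i _ => by rw [mul_comm], h]
    exact if_congr (hπ y) rfl rfl
  let tw : ZMod p → IrrCharacter Y := fun i => ⟨_, CharCore.isIrrCharacter_hom_mul (lam i) η.2⟩
  have htw : ∀ i, i ≠ 0 → tw i ≠ η := by
    intro i hi heq
    have h1 : (lam i y₀ : ℂ) * (η : Y → ℂ) y₀ = (η : Y → ℂ) y₀ :=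
      congrFun (congrArg Subtype.val heq) y₀
    rw [mul_eq_right₀ hne, hlam] at h1
    have hu : Multiplicative.toAdd (π y₀) * i ≠ 0 := mul_ne_zero (mt (hπ y₀).mp hy₀) hi
    exact hu (ZMod.injective_stdAddChar (h1.trans (AddChar.map_zero_eq_one _).symm))
  have hin : ∀ i, ∑ y, (lam i y : ℂ) * ((η : Y → ℂ) y * conj ((η : Y → ℂ) y)) =
      if i = 0 then (Nat.card Y : ℂ) else 0 := by
    intro i
    have h := CharCore.classInner_irr (tw i) η
    rw [CharCore.classInner_def, inv_mul_eq_iff_eq_mul₀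
      (Nat.cast_ne_zero.mpr Nat.card_pos.ne')] at h
    refine (Finset.sum_congr rfl fun y _ => ?_).trans (h.trans ?_)
    · show _ = (lam i y : ℂ) * (η : Y → ℂ) y * conj ((η : Y → ℂ) y)
      ring
    · by_cases hi : i = 0
      · subst hi
        rw [if_pos rfl, if_pos, mul_one]
        refine Subtype.ext (funext fun y => ?_)
        show (lam 0 y : ℂ) * (η : Y → ℂ) y = _
        rw [hlam, mul_zero, AddChar.map_zero_eq_one, one_mul]
      · rw [if_neg hi, if_neg (htw i hi), mul_zero]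
  have htot : (p : ℂ) * ∑ y : N, (η : Y → ℂ) y * conj ((η : Y → ℂ) y) = (Nat.card Y : ℂ) := by
    have h := Finset.sum_congr (s₁ := (Finset.univ : Finset (ZMod p))) rfl fun i _ => hin i
    rw [Finset.sum_comm, Finset.sum_ite_eq' _ (0 : ZMod p), if_pos (Finset.mem_univ _)] at h
    rw [← h, Finset.mul_sum, ← Finset.sum_filter_add_sum_filter_not Finset.univ (fun y => y ∈ N)]
    rw [Finset.sum_eq_zero (s := Finset.univ.filter fun y => ¬ y ∈ N), add_zero,
      Finset.sum_subtype (p := fun y => y ∈ N) (Finset.univ.filter fun y => y ∈ N) (by simp)]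
    · refine Finset.sum_congr rfl fun y _ => ?_
      rw [← Finset.sum_mul, hsum, if_pos y.2]
    · intro y hy
      rw [← Finset.sum_mul, hsum, if_neg (Finset.mem_filter.mp hy).2, zero_mul]
  have hY : (Nat.card Y : ℂ) = (p : ℂ) * (Nat.card N : ℂ) := by
    rw [← N.card_mul_index, hidx]; push_cast; ring
  exact mul_left_cancel₀ (Nat.cast_ne_zero.mpr (Fact.out : p.Prime).ne_zero) (htot.trans hY)

end Twist

section Split

variable {G : Type*} [Group G] [Fintype G] [hp : Fact p.Prime]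

/-- The restriction of a function to a subgroup has norm one. -/
def NormOn (f : G → ℂ) (Y : Subgroup G) : Prop :=
  ∑ y : Y, f y * conj (f y) = (Nat.card Y : ℂ)

theorem NormOn.irr {ψ : IrrCharacter G} {Y : Subgroup G} (h : NormOn (ψ : G → ℂ) Y) :
    IsIrrCharacter Y (fun y : Y => (ψ : G → ℂ) y) := by
  refine CharCore.isIrrCharacter_iff.mpr
    ⟨CharCore.isCharacter_restrict (CharCore.irr_isCharacter ψ) Y, ?_⟩
  rw [CharCore.classInner_def, h, inv_mul_cancel₀ (Nat.cast_ne_zero.mpr Nat.card_pos.ne')]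

theorem normOn_top (ψ : IrrCharacter G) : NormOn (ψ : G → ℂ) (⊤ : Subgroup G) := by
  have h := CharCore.classInner_irr_self ψ
  rw [CharCore.classInner_def, inv_mul_eq_iff_eq_mul₀ (Nat.cast_ne_zero.mpr Nat.card_pos.ne'),
    mul_one] at h
  rw [NormOn, Subgroup.card_top, ← h]
  exact Fintype.sum_equiv Subgroup.topEquiv.toEquiv _ _ fun y => rfl

variable {H K : Subgroup G}

/-- A character nontrivial on the complement has small average over `H`. -/
theorem Split.re_sum_le (S : Split p H ⊤ K) (hHp : IsPGroup p H) (ψ : IrrCharacter G)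
    (hψ : ∃ k ∈ K, (ψ : G → ℂ) k ≠ (ψ : G → ℂ) 1) :
    (p : ℝ) * (∑ h : H, (ψ : G → ℂ) h).re ≤ Nat.card H * charDegree (ψ : G → ℂ) := by
  have hp0 : (0 : ℝ) < p := by exact_mod_cast hp.out.pos
  have hK : K.Normal := ⟨fun k hk g => S.normal g trivial k hk⟩
  have hprop : ∃ L : Subgroup G, L ≤ H ∧ NormOn (ψ : G → ℂ) (K ⊔ L) :=
    ⟨H, le_rfl, by
      have : K ⊔ H = ⊤ := eq_top_iff.mpr fun x _ => by
        obtain ⟨k, hk, h, hh, rfl⟩ := S.sup x trivial
        exact mul_mem (mem_sup_left hk) (mem_sup_right hh)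
      rw [this]; exact normOn_top ψ⟩
  obtain ⟨H₂, ⟨hH₂, hn₂⟩, hmin⟩ := exists_minimal_of_wellFoundedLT _ hprop
  have hne : H₂ ≠ ⊥ := by
    rintro rfl
    rw [sup_bot_eq] at hn₂
    obtain ⟨k, hk, hk1⟩ := hψ
    exact hk1 (kernel_of_fixfree hHp S.cop le_rfl (fun a ha d hd => hK.conj_mem d hd a)
      (fun a _ d hd => hK.conj_mem d hd a) (fun d hd h => S.fix d hd h) ⟨_, hn₂.irr⟩
      (fun a _ x x' hxx => by
        show (ψ : G → ℂ) (x' : G) = (ψ : G → ℂ) (x : G)
        rw [hxx, BlocksCore.irr_class ψ]) ⟨k, hk⟩ hk)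
  obtain ⟨n, hn⟩ := (hHp.to_le hH₂).exists_card_eq
  obtain ⟨m, rfl⟩ : ∃ m, n = m + 1 := by
    refine Nat.exists_eq_succ_of_ne_zero fun h0 => hne ?_
    rw [← Subgroup.card_eq_one, hn, h0, pow_zero]
  obtain ⟨L, hL⟩ := Sylow.exists_subgroup_card_pow_prime (G := H₂) p (n := m)
    (hn ▸ pow_dvd_pow p (Nat.le_succ m))
  set H₃ : Subgroup G := L.map H₂.subtype with hH₃def
  have hH₃ : H₃ ≤ H₂ := map_subtype_le L
  have hc₃ : Nat.card H₃ = p ^ m := by
    rw [hH₃def, ← Nat.card_congr (L.equivMapOfInjective _ H₂.subtype_injective).toEquiv, hL]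
  have hlt : H₃ < H₂ := by
    refine lt_of_le_of_ne hH₃ fun h => ?_
    rw [h, hn] at hc₃
    exact absurd (Nat.pow_right_injective hp.out.two_le hc₃) (by omega)
  -- the two subgroups containing `K`
  have hdis : ∀ M ≤ H, Nat.card ↥(K ⊔ M) = Nat.card K * Nat.card M := by
    intro M hM
    rw [← Nat.card_prod]
    refine (Nat.card_congr (Equiv.ofBijective
      (fun x : K × M => (⟨(x.1 : G) * x.2, mul_mem (mem_sup_left x.1.2) (mem_sup_right x.2.2)⟩ :
        ↥(K ⊔ M))) ⟨?_, ?_⟩)).symm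
    · rintro ⟨k, h⟩ ⟨k', h'⟩ e
      have e' : (k : G) * h = k' * h' := congrArg Subtype.val e
      have e2 : (k' : G)⁻¹ * k = h' * (h : G)⁻¹ := by
        rw [eq_mul_inv_iff_mul_eq, mul_assoc, e', inv_mul_cancel_left]
      have h1 := S.disj _ (mul_mem (inv_mem k'.2) k.2)
        (e2 ▸ mul_mem (hM h'.2) (inv_mem (hM h.2)))
      rw [h1] at e2
      exact Prod.ext (Subtype.ext (inv_mul_eq_one.mp h1).symm)
        (Subtype.ext (mul_inv_eq_one.mp e2.symm).symm)
    · rintro ⟨x, hx⟩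
      obtain ⟨k, hk, h, hh, rfl⟩ := mem_sup_of_normal_left.mp hx
      exact ⟨(⟨k, hk⟩, ⟨h, hh⟩), rfl⟩
  set Y := K ⊔ H₂ with hY
  set N := K ⊔ H₃ with hN
  have hNY : N ≤ Y := sup_le_sup_left hH₃ K
  haveI : (N.subgroupOf Y).Normal := ⟨fun a ha b => by
    rw [mem_subgroupOf] at ha ⊢
    push_cast
    obtain ⟨k, hk, h, hh, e⟩ := mem_sup_of_normal_left.mp ha
    have hr : Res H K (a : G) h := ⟨hH₂ (hH₃ hh), by rw [← e, mul_inv_cancel_right]; exact hk⟩
    have hr' := S.res_conj (Subgroup.mem_top (b : G)) hr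
    rw [← inv_mul_cancel_right ((b : G) * a * (b : G)⁻¹) h]
    exact mul_mem (mem_sup_left hr'.2) (mem_sup_right hh)⟩
  have hidx : (N.subgroupOf Y).index = p := by
    have h := (N.subgroupOf Y).card_mul_index
    rw [Nat.card_congr (subgroupOfEquivOfLe hNY).toEquiv, hdis _ (hH₃.trans hH₂), hdis _ hH₂,
      hc₃, hn, pow_succ, ← mul_assoc] at h
    exact mul_left_cancel₀ (mul_ne_zero Nat.card_pos.ne' (pow_ne_zero _ hp.out.ne_zero)) h
  have hvan : ∀ y : Y, (y : G) ∉ N → (ψ : G → ℂ) y = 0 := by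
    rcases vanish_or_norm (N.subgroupOf Y) hidx ⟨_, hn₂.irr⟩ with hv | hnorm
    · exact fun y hy => hv y (by rwa [mem_subgroupOf])
    · exfalso
      refine hlt.not_ge (hmin ⟨hH₃.trans hH₂, ?_⟩ hlt.le)
      rw [NormOn, ← Nat.card_congr (subgroupOfEquivOfLe hNY).toEquiv, ← hnorm]
      exact Fintype.sum_equiv (subgroupOfEquivOfLe hNY).toEquiv.symm _ _ fun y => rfl
  have hsum : ∑ a : H₂, (ψ : G → ℂ) a = ∑ a : H₃, (ψ : G → ℂ) a := by
    symm
    refine Finset.sum_bij_ne_zero (fun a _ _ => (⟨a, hH₃ a.2⟩ : H₂)) (fun _ _ _ => Finset.mem_univ _)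
      (fun a _ _ b _ _ e => Subtype.ext (congrArg Subtype.val e :))
      (fun a _ ha => ?_) (fun _ _ _ => rfl)
    have haN : (a : G) ∈ N := by
      by_contra h
      exact ha (hvan ⟨a, mem_sup_right a.2⟩ h)
    obtain ⟨k, hk, h, hh, e⟩ := mem_sup_of_normal_left.mp haN
    have hk1 : k = 1 := S.disj k hk (by
      have : k = (a : G) * h⁻¹ := by rw [← e, mul_inv_cancel_right]
      rw [this]
      exact mul_mem (hH₂ a.2) (inv_mem (hH₂ (hH₃ hh))))
    rw [hk1, one_mul] at e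
    exact ⟨⟨a, e ▸ hh⟩, Finset.mem_univ _, ha, rfl⟩
  have h3 : (∑ a : H₃, (ψ : G → ℂ) a).re ≤ Nat.card H₃ * charDegree (ψ : G → ℂ) := by
    refine (Complex.re_le_norm _).trans ((norm_sum_le _ _).trans ?_)
    refine (Finset.sum_le_sum (g := fun _ : H₃ => (charDegree (ψ : G → ℂ) : ℝ))
      fun a _ => ?_).trans (le_of_eq ?_)
    · refine (CharCore.IsCharacter.norm_apply_le (CharCore.irr_isCharacter ψ) (a : G)).trans
        (le_of_eq ?_)
      rw [BlocksCore.irr_one_eq, Complex.norm_natCast]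
    · simp
  have hcH : (0 : ℝ) < Nat.card H := by exact_mod_cast Nat.card_pos
  have hcH2 : (0 : ℝ) < Nat.card H₂ := by exact_mod_cast Nat.card_pos
  have hanti := re_sum_div_anti ψ hH₂
  rw [hsum, div_le_div_iff₀ hcH hcH2] at hanti
  have hc23 : (Nat.card H₂ : ℝ) = p * Nat.card H₃ := by
    rw [hn, hc₃, pow_succ]; push_cast; ring
  have h4 := mul_le_mul_of_nonneg_left h3 hcH.le
  rw [hc23] at hanti
  have hc3 : (0 : ℝ) < Nat.card H₃ := by exact_mod_cast Nat.card_pos
  refine le_of_mul_le_mul_right ?_ hc3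
  nlinarith [hanti, h4]

/-- The inequality for the sum over two conjugates of `H` inside their join. -/
theorem pair_bound {A : Type*} [Group A] [Fintype A] (α β : A →* G) (hα : Function.Injective α)
    (hA : IsPGroup p A) {K : Subgroup G} (S : Split p α.range ⊤ K) (σ : A ≃ A)
    (hσ : ∀ b, Res α.range K (β b) (α (σ b))) (ψ : IrrCharacter G) :
    0 ≤ ((p : ℝ) - 1) * (∑ a, ∑ b, (ψ : G → ℂ) (α a * β b)).re +
      Nat.card A * (Nat.card A * charDegree (ψ : G → ℂ) - p * (∑ a, (ψ : G → ℂ) (α a)).re) := by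
  set f : ℝ := (charDegree (ψ : G → ℂ) : ℝ)
  set s := (∑ a, (ψ : G → ℂ) (α a)).re with hs
  have hq : (0 : ℝ) < Nat.card A := by exact_mod_cast Nat.card_pos
  by_cases hk : ∀ k ∈ K, (ψ : G → ℂ) k = (ψ : G → ℂ) 1
  · obtain ⟨n, ρ, hρ, hker⟩ := CharCore.IsCharacter.exists_kernel (CharCore.irr_isCharacter ψ)
    have hres : ∀ x w, Res α.range K x w → (ψ : G → ℂ) x = (ψ : G → ℂ) w := fun x w h => by
      have h1 : ρ (x * w⁻¹) = 1 := (hker _).mp (hk _ h.2)
      rw [← hρ, show x = x * w⁻¹ * w by group]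
      simp only [Representation.character, map_mul, h1, one_mul]
    have hT : ∑ a, ∑ b, (ψ : G → ℂ) (α a * β b) =
        ((Nat.card A : ℝ) : ℂ) * ∑ a, (ψ : G → ℂ) (α a) := by
      have hab : ∀ a b, (ψ : G → ℂ) (α a * β b) = (ψ : G → ℂ) (α (a * σ b)) := fun a b => by
        rw [map_mul]
        exact hres _ _ (S.res_mul (res_of_mem ⟨a, rfl⟩) (hσ b))
      simp only [hab]
      refine (Finset.sum_congr rfl (g := fun _ : A => ∑ c, (ψ : G → ℂ) (α c)) fun a _ =>
        Fintype.sum_equiv (σ.trans (Equiv.mulLeft a)) _ _ fun b => rfl).trans ?_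
      simp
    rw [hT, Complex.re_ofReal_mul, ← hs]
    have hsle : s ≤ Nat.card A * f := by
      refine (Complex.re_le_norm _).trans ((norm_sum_le _ _).trans ?_)
      refine (Finset.sum_le_sum (g := fun _ : A => f) fun a _ => ?_).trans (le_of_eq ?_)
      · refine (CharCore.IsCharacter.norm_apply_le (CharCore.irr_isCharacter ψ) (α a)).trans
          (le_of_eq ?_)
        rw [BlocksCore.irr_one_eq, Complex.norm_natCast]
      · simp
    nlinarith
  · push Not at hk
    have h1 := S.re_sum_le (hA.of_surjective α.rangeRestrict α.rangeRestrict_surjective) ψ hk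
    replace h1 : (p : ℝ) * s ≤ Nat.card A * f := by
      refine le_trans (le_of_eq ?_) (h1.trans (le_of_eq ?_))
      · rw [hs]
        congr 2
        exact Fintype.sum_equiv (MonoidHom.ofInjective hα).toEquiv (fun a => (ψ : G → ℂ) (α a))
          (fun h : α.range => (ψ : G → ℂ) h) (fun a => rfl) |>.trans
          (Finset.sum_congr (by ext; simp) fun _ _ => rfl)
      · rw [Nat.card_congr (MonoidHom.ofInjective hα).toEquiv.symm]
    have h2 := re_sum_prod_nonneg ψ α β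
    have hp1 : (0 : ℝ) ≤ (p : ℝ) - 1 := by
      have : (1 : ℝ) ≤ p := by exact_mod_cast hp.out.one_le
      linarith
    have := mul_nonneg hp1 h2
    have := mul_nonneg hq.le (sub_nonneg.mpr h1)
    linarith

end Split

section Main

variable {G : Type*} [Group G] [Fintype G] [hp : Fact p.Prime] {H : Subgroup G}

/-- The sum of a character over `H`. -/
noncomputable def hSum (H : Subgroup G) (χ : G → ℂ) : ℝ := (∑ h : H, χ h).re

/-- The sum of a character over the products of `H` and a conjugate. -/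
noncomputable def gSum (H : Subgroup G) (g : G) (χ : G → ℂ) : ℂ :=
  ∑ a : H, ∑ b : H, χ ((a : G) * (g * b * g⁻¹))

theorem ofReal_hSum (H : Subgroup G) (χ : IrrCharacter G) :
    (hSum H (χ : G → ℂ) : ℂ) = ∑ h : H, (χ : G → ℂ) h := by
  refine Complex.conj_eq_iff_re.mp ?_
  rw [map_sum]
  exact Fintype.sum_equiv (Equiv.inv H) _ _ fun h => by rw [BlocksCore.conj_irr]; rfl

theorem hSum_le (H : Subgroup G) (χ : IrrCharacter G) :
    hSum H (χ : G → ℂ) ≤ Nat.card H * charDegree (χ : G → ℂ) := by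
  refine (Complex.re_le_norm _).trans ((norm_sum_le _ _).trans ?_)
  refine (Finset.sum_le_sum (g := fun _ : H => (charDegree (χ : G → ℂ) : ℝ))
    fun a _ => ?_).trans (le_of_eq ?_)
  · refine (CharCore.IsCharacter.norm_apply_le (CharCore.irr_isCharacter χ) (a : G)).trans
      (le_of_eq ?_)
    rw [BlocksCore.irr_one_eq, Complex.norm_natCast]
  · simp

/-- The average of `gSum` over the group. -/
theorem sum_gSum (H : Subgroup G) (χ : IrrCharacter G) :
    ∑ g : G, gSum H g (χ : G → ℂ) =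
      (Nat.card G : ℂ) * (hSum H (χ : G → ℂ) : ℂ) ^ 2 / (χ : G → ℂ) 1 := by
  simp only [gSum]
  rw [Finset.sum_comm, Finset.sum_congr rfl fun a _ => Finset.sum_comm, ofReal_hSum, sq,
    Finset.sum_mul, Finset.mul_sum, Finset.sum_div]
  refine Finset.sum_congr rfl fun a _ => ?_
  rw [Finset.mul_sum, Finset.mul_sum, Finset.sum_div]
  refine Finset.sum_congr rfl fun b _ => ?_
  have h := BlocksCore.sum_char_conj_mul χ (b : G) (a : G)
  rw [show (Nat.card G : ℂ) * ((χ : G → ℂ) a * (χ : G → ℂ) b) / (χ : G → ℂ) 1 =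
    (Nat.card G : ℂ) * (χ : G → ℂ) b * (χ : G → ℂ) a / (χ : G → ℂ) 1 by ring, ← h]
  refine Fintype.sum_equiv (Equiv.inv G) _ _ fun g => ?_
  simp only [Equiv.inv_apply, inv_inv]
  have := BlocksCore.irr_class χ (g * (b : G) * g⁻¹ * a) (a : G)
  rw [← this]
  group

theorem hSum_bound (hHp : IsPGroup p H) (hHab : IsMulCommutative H) (hcl : IsExtremelyClosed H)
    (χ : IrrCharacter G) :
    hSum H (χ : G → ℂ) = Nat.card H * charDegree (χ : G → ℂ) ∨
      ((p : ℝ) - 1) * hSum H (χ : G → ℂ) ≤ Nat.card H * charDegree (χ : G → ℂ) := by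
  set q : ℝ := (Nat.card H : ℝ) with hq
  set f : ℝ := (charDegree (χ : G → ℂ) : ℝ) with hf
  set s : ℝ := hSum H (χ : G → ℂ) with hs
  have key : ∀ g : G, 0 ≤ ((p : ℝ) - 1) * (gSum H g (χ : G → ℂ)).re + q * (q * f - p * s) := by
    intro g
    obtain ⟨K, n, hn, S, -, hres⟩ := exists_split hHp hHab hcl g
    set X := H ⊔ H.map (MulAut.conj g).toMonoidHom with hX
    have hmemb : ∀ b : H, g * b * g⁻¹ ∈ X := fun b => mem_sup_right ⟨b, b.2, rfl⟩
    let α : H →* X := Subgroup.inclusion le_sup_left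
    let β : H →* X :=
      ((MulAut.conj g).toMonoidHom.comp H.subtype).codRestrict X hmemb
    let σ : H ≃ H :=
      { toFun := fun b => ⟨n * b * n⁻¹, (mem_normalizer_iff.mp hn b).mp b.2⟩
        invFun := fun b => ⟨n⁻¹ * b * n⁻¹⁻¹, (mem_normalizer_iff.mp (inv_mem hn) b).mp b.2⟩
        left_inv := fun b => Subtype.ext (show n⁻¹ * (n * b * n⁻¹) * n⁻¹⁻¹ = (b : G) by group)
        right_inv := fun b => Subtype.ext (show n * (n⁻¹ * b * n⁻¹⁻¹) * n⁻¹ = (b : G) by group) }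
    have hr : ∀ x : X, x ∈ α.range ↔ (x : G) ∈ H := fun x => by
      constructor
      · rintro ⟨a, rfl⟩; exact a.2
      · exact fun hx => ⟨⟨x, hx⟩, Subtype.ext rfl⟩
    have S' : Split p α.range ⊤ (K.subgroupOf X) :=
      { hHX := le_top
        hKX := le_top
        normal := fun x _ k hk => S.normal x x.2 k hk
        disj := fun x hx hxH => Subtype.ext (S.disj x hx ((hr x).mp hxH))
        sup := fun x _ => by
          obtain ⟨k, hk, h, hh, e⟩ := S.sup x x.2
          exact ⟨⟨k, S.hKX hk⟩, hk, α ⟨h, hh⟩, ⟨_, rfl⟩, Subtype.ext e⟩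
        cop := by
          rw [Nat.card_congr (subgroupOfEquivOfLe S.hKX).toEquiv]; exact S.cop
        fix := fun k hk h => Subtype.ext (S.fix k hk fun a ha =>
          congrArg Subtype.val (h (α ⟨a, ha⟩) ⟨_, rfl⟩))
        syl := fun y _ hy => by
          obtain ⟨x, hx, hxy⟩ := S.syl y y.2 (by simpa [Subgroup.orderOf_coe] using hy)
          exact ⟨⟨x, hx⟩, Subgroup.mem_top _, (hr _).mpr hxy⟩
        comm := fun a ha b hb =>
          Subtype.ext (S.comm a ((hr a).mp ha) b ((hr b).mp hb)) }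
    have hσ : ∀ b, Res α.range (K.subgroupOf X) (β b) (α (σ b)) := fun b =>
      ⟨⟨_, rfl⟩, (hres b b.2).2⟩
    obtain ⟨m, hm⟩ := CharCore.IsCharacter.exists_sum
      (CharCore.isCharacter_restrict (CharCore.irr_isCharacter χ) X)
    have hm' : ∀ x : X, (χ : G → ℂ) x =
        ∑ ψ : IrrCharacter X, ((m ψ : ℝ) : ℂ) * (ψ : X → ℂ) x := fun x => by
      have := congrFun hm x
      simpa [Finset.sum_apply] using this
    have e1 : gSum H g (χ : G → ℂ) =
        ∑ ψ : IrrCharacter X, ((m ψ : ℝ) : ℂ) * ∑ a, ∑ b, (ψ : X → ℂ) (α a * β b) := by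
      simp only [gSum, Finset.mul_sum]
      rw [Finset.sum_comm (γ := IrrCharacter X)]
      refine Finset.sum_congr rfl fun a _ => ?_
      rw [Finset.sum_comm (γ := IrrCharacter X)]
      exact Finset.sum_congr rfl fun b _ => hm' (α a * β b)
    have e2 : ∑ h : H, (χ : G → ℂ) h =
        ∑ ψ : IrrCharacter X, ((m ψ : ℝ) : ℂ) * ∑ a, (ψ : X → ℂ) (α a) := by
      simp only [Finset.mul_sum]
      rw [Finset.sum_comm (γ := IrrCharacter X)]
      exact Finset.sum_congr rfl fun a _ => hm' (α a)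
    have e3 : f = ∑ ψ : IrrCharacter X, (m ψ : ℝ) * (charDegree (ψ : X → ℂ) : ℝ) := by
      have h1 := hm' 1
      rw [Subgroup.coe_one, BlocksCore.irr_one_eq] at h1
      simp only [BlocksCore.irr_one_eq] at h1
      rw [hf]
      exact_mod_cast h1
    have e2' : s = ∑ ψ : IrrCharacter X, (m ψ : ℝ) * (∑ a, (ψ : X → ℂ) (α a)).re := by
      rw [hs, hSum, e2, Complex.re_sum]
      exact Finset.sum_congr rfl fun ψ _ => Complex.re_ofReal_mul _ _
    rw [e1, Complex.re_sum, e2', e3]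
    simp only [Complex.re_ofReal_mul]
    obtain ⟨T, hT⟩ : ∃ T : IrrCharacter X → ℝ, ∀ ψ : IrrCharacter X,
        (∑ a, ∑ b, (ψ : X → ℂ) (α a * β b)).re = T ψ := ⟨_, fun ψ => rfl⟩
    obtain ⟨U, hU⟩ : ∃ U : IrrCharacter X → ℝ, ∀ ψ : IrrCharacter X,
        (∑ a, (ψ : X → ℂ) (α a)).re = U ψ := ⟨_, fun ψ => rfl⟩
    simp only [hT, hU, Finset.mul_sum, ← Finset.sum_sub_distrib, ← Finset.sum_add_distrib]
    refine Finset.sum_nonneg fun ψ _ => ?_
    have := mul_nonneg (Nat.cast_nonneg (α := ℝ) (m ψ))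
      (pair_bound α β (Subgroup.inclusion_injective _) hHp S' σ hσ ψ)
    rw [← hq, hT, hU] at this
    refine this.trans (le_of_eq ?_)
    ring
  have hsum := Finset.sum_nonneg (s := (Finset.univ : Finset G)) fun g _ => key g
  rw [Finset.sum_add_distrib, ← Finset.mul_sum, ← Complex.re_sum, sum_gSum, BlocksCore.irr_one_eq,
    Finset.sum_const, Finset.card_univ, nsmul_eq_mul, ← hs] at hsum
  have e : ((Nat.card G : ℂ) * (s : ℂ) ^ 2 / (charDegree (χ : G → ℂ) : ℂ)).re =
      (Nat.card G : ℝ) * s ^ 2 / f := by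
    rw [show (Nat.card G : ℂ) * (s : ℂ) ^ 2 / (charDegree (χ : G → ℂ) : ℂ) =
      (((Nat.card G : ℝ) * s ^ 2 / f : ℝ) : ℂ) by rw [hf]; push_cast; ring, Complex.ofReal_re]
  rw [e, ← Nat.card_eq_fintype_card] at hsum
  have hG : (0 : ℝ) < Nat.card G := by exact_mod_cast Nat.card_pos
  have hf0 : 0 < f := by rw [hf]; exact_mod_cast BlocksCore.charDegree_pos χ
  have h2 : 0 ≤ ((p : ℝ) - 1) * s ^ 2 + q * (q * f - p * s) * f := by
    have h3 : ((p : ℝ) - 1) * ((Nat.card G : ℝ) * s ^ 2 / f) +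
        (Nat.card G : ℝ) * (q * (q * f - p * s)) =
        (Nat.card G : ℝ) / f * (((p : ℝ) - 1) * s ^ 2 + q * (q * f - p * s) * f) := by
      field_simp
    rw [h3] at hsum
    exact (mul_nonneg_iff_of_pos_left (div_pos hG hf0)).mp hsum
  rcases (hSum_le H χ).lt_or_eq with hlt | heq
  · right
    by_contra hcon
    rw [not_le] at hcon
    nlinarith [mul_pos (sub_pos.mpr hlt) (sub_pos.mpr hcon)]
  · exact Or.inl heq

/-- Equality in the trivial bound means that `H` is in the kernel. -/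
theorem apply_eq_of_hSum_eq (χ : IrrCharacter G)
    (h : hSum H (χ : G → ℂ) = Nat.card H * charDegree (χ : G → ℂ)) (x : G) (hx : x ∈ H) :
    (χ : G → ℂ) x = (χ : G → ℂ) 1 := by
  have hle : ∀ a : H, ‖(χ : G → ℂ) a‖ ≤ (charDegree (χ : G → ℂ) : ℝ) := fun a => by
    refine (CharCore.IsCharacter.norm_apply_le (CharCore.irr_isCharacter χ) (a : G)).trans
      (le_of_eq ?_)
    rw [BlocksCore.irr_one_eq, Complex.norm_natCast]
  have hle' : ∀ a ∈ (Finset.univ : Finset H),
      ((χ : G → ℂ) a).re ≤ (charDegree (χ : G → ℂ) : ℝ) :=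
    fun a _ => (Complex.re_le_norm _).trans (hle a)
  have he : ∑ a : H, ((χ : G → ℂ) a).re = ∑ _a : H, (charDegree (χ : G → ℂ) : ℝ) := by
    rw [← Complex.re_sum]
    exact h.trans (by simp)
  have h1 := (Finset.sum_eq_sum_iff_of_le hle').mp he ⟨x, hx⟩ (Finset.mem_univ _)
  have hn : ‖(χ : G → ℂ) x‖ = ((χ : G → ℂ) x).re :=
    le_antisymm ((hle ⟨x, hx⟩).trans h1.ge) (Complex.re_le_norm _)
  rw [BlocksCore.irr_one_eq]
  apply Complex.ext
  · rw [h1, Complex.natCast_re]
  · rw [Complex.natCast_im]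
    have := Complex.normSq_eq_norm_sq ((χ : G → ℂ) x)
    rw [hn, Complex.normSq_apply] at this
    nlinarith

end Main

end Cfsg.Agent.ExtClosed29
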