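import Cfsg.Agent.ExtClosed29.Bound
import Cfsg.Agent.Lib.CharCore.ConjAut
import Cfsg.Agent.Lib.CharCore.Complete
import Cfsg.Agent.Lib.BlocksCore.PPart
import Cfsg.Agent.Lib.BlocksDefect.PrincipalSection

/-!
# Character lemmas for the second part
-/

set_option autoImplicit false
set_option linter.unusedSectionVars false

namespace Cfsg.Agent.ExtClosed29

open Cfsg Subgroup
open scoped ComplexConjugate Classical

variable {G : Type*} [Group G] [Fintype G] {p : ℕ} [hp : Fact p.Prime]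

/-- The action of a subgroup on the irreducible characters of a subgroup it normalises. -/
@[reducible] noncomputable def conjIrrAction (P A : Subgroup G)
    (hn : ∀ h ∈ P, ∀ a ∈ A, h * a * h⁻¹ ∈ A) : MulAction P (IrrCharacter A) where
  smul a θ := ⟨fun x => (θ : A → ℂ) (CharCore.conjAut A P hn a⁻¹ x),
    CharCore.isIrrCharacter_comp_surjective θ.2 (CharCore.conjAut A P hn a⁻¹).toMonoidHom
      (CharCore.conjAut A P hn a⁻¹).surjective⟩
  one_smul θ := Subtype.ext (funext fun x => by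
    show (θ : A → ℂ) (CharCore.conjAut A P hn (1 : P)⁻¹ x) = _
    rw [inv_one, map_one]; rfl)
  mul_smul a b θ := Subtype.ext (funext fun x => by
    show (θ : A → ℂ) (CharCore.conjAut A P hn (a * b)⁻¹ x) = (θ : A → ℂ)
      (CharCore.conjAut A P hn b⁻¹ (CharCore.conjAut A P hn a⁻¹ x))
    rw [mul_inv_rev, map_mul]; rfl)

/-- A `p`-group fixing a nontrivial element of a `p'`-group fixes a nontrivial character. -/
theorem exists_invariant_irr {P A : Subgroup G} (hP : IsPGroup p P)
    (hn : ∀ h ∈ P, ∀ a ∈ A, h * a * h⁻¹ ∈ A) {c : G} (hcA : c ∈ A) (hc1 : c ≠ 1)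
    (hfix : ∀ h ∈ P, h * c = c * h) :
    ∃ θ : IrrCharacter A, θ ≠ BlocksDefect.oneIrr A ∧
      ∀ h ∈ P, ∀ k k' : A, (k' : G) = h * k * h⁻¹ → (θ : A → ℂ) k' = (θ : A → ℂ) k := by
  letI := conjIrrAction P A hn
  have hsm : ∀ (a : P) (θ : IrrCharacter A) (x : A),
      ((a • θ : IrrCharacter A) : A → ℂ) x = (θ : A → ℂ) (CharCore.conjAut A P hn a⁻¹ x) :=
    fun a θ x => rfl
  have hc : ∀ a : P, CharCore.conjAut A P hn a⁻¹ ⟨c, hcA⟩ = ⟨c, hcA⟩ := fun a => Subtype.ext (by
    rw [CharCore.coe_conjAut]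
    show ((a⁻¹ : P) : G) * c * ((a⁻¹ : P) : G)⁻¹ = c
    rw [hfix _ (a⁻¹).2, mul_inv_cancel_right])
  by_contra hcon
  push Not at hcon
  have h2 := CharCore.modP_sum_sub_sum_fixed (X := IrrCharacter A) hP
    (fun θ => (θ : A → ℂ) 1 * (θ : A → ℂ) ⟨c, hcA⟩)
    (fun θ => (BlocksCore.isIntegral_irr θ _).mul (BlocksCore.isIntegral_irr θ _))
    (fun a θ => by simp only [hsm, hc, map_one])
  rw [CharCore.sum_degree_mul_apply, if_neg (fun h => hc1 (congrArg Subtype.val h))] at h2
  replace h2 : CharCore.ModP p (-(((BlocksDefect.oneIrr A : IrrCharacter A) : A → ℂ) 1 *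
      ((BlocksDefect.oneIrr A : IrrCharacter A) : A → ℂ) ⟨c, hcA⟩)) := by
    rw [← zero_sub]
    convert h2 using 2
    symm
    apply Finset.sum_eq_single
    · intro θ hθ hθ1
      simp only [Finset.mem_filter, Finset.mem_univ, true_and] at hθ
      obtain ⟨h, hh, k, k', hkk, hne⟩ := hcon θ hθ1
      refine absurd ?_ hne
      have h1 := congrFun (congrArg Subtype.val (hθ ⟨h, hh⟩)) k'
      rw [hsm] at h1
      rw [← h1]
      refine congrArg (θ : A → ℂ) (Subtype.ext ?_)
      rw [CharCore.coe_conjAut, hkk]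
      show h⁻¹ * (h * k * h⁻¹) * h⁻¹⁻¹ = k
      group
    · intro h1
      simp only [Finset.mem_filter, Finset.mem_univ, true_and] at h1
      refine absurd (fun a => ?_) h1
      exact Subtype.ext (funext fun x => rfl)
  have h3 := h2.neg
  rw [neg_neg, BlocksDefect.coe_oneIrr, one_mul, ← Nat.cast_one, CharCore.modP_natCast_iff] at h3
  exact hp.out.not_dvd_one h3

/-- Sums of a class function over a coset of a normal `p'`-subgroup reduce to the centralizer of
a `p`-element of the coset. -/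
theorem card_mul_sum_coset {A : Subgroup G} [A.Normal] (hA : ¬ p ∣ Nat.card A) {w : G}
    (hw : ∃ k : ℕ, orderOf w = p ^ k) {F : G → ℂ} (hF : IsClassFunction G F) :
    (Nat.card (A ⊓ centralizer ({w} : Set G) : Subgroup G) : ℂ) * ∑ a : A, F ((a : G) * w) =
      (Nat.card A : ℂ) * ∑ s : (A ⊓ centralizer ({w} : Set G) : Subgroup G), F ((s : G) * w) := by
  set C₁ := A ⊓ centralizer ({w} : Set G) with hC₁
  have hmem : ∀ x : A × C₁,
      (x.1 : G) * ((x.2 : G) * w) * (x.1 : G)⁻¹ * w⁻¹ ∈ A := by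
    intro x
    have e : (x.1 : G) * ((x.2 : G) * w) * (x.1 : G)⁻¹ * w⁻¹ =
        (x.1 : G) * (x.2 : G) * (w * (x.1 : G)⁻¹ * w⁻¹) := by group
    rw [e]
    exact mul_mem (mul_mem x.1.2 x.2.2.1)
      ((inferInstance : A.Normal).conj_mem _ (inv_mem x.1.2) w)
  let f : A × C₁ → A := fun x => ⟨_, hmem x⟩
  have hfib : ∀ y : A, (Finset.univ.filter fun x => f x = y).card ≤ Nat.card C₁ := by
    intro y
    rcases (Finset.univ.filter fun x => f x = y).eq_empty_or_nonempty with he | ⟨x₀, hx₀⟩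
    · rw [he, Finset.card_empty]; exact Nat.zero_le _
    simp only [Finset.mem_filter, Finset.mem_univ, true_and] at hx₀
    have hconj : ∀ x, f x = y →
        (x₀.1 : G)⁻¹ * (x.1 : G) * ((x.2 : G) * w) * ((x₀.1 : G)⁻¹ * (x.1 : G))⁻¹ =
          (x₀.2 : G) * w := by
      intro x hx
      have h1 : (x.1 : G) * ((x.2 : G) * w) * (x.1 : G)⁻¹ =
          (x₀.1 : G) * ((x₀.2 : G) * w) * (x₀.1 : G)⁻¹ :=
        mul_right_cancel (congrArg Subtype.val (hx.trans hx₀.symm))
      calc (x₀.1 : G)⁻¹ * (x.1 : G) * ((x.2 : G) * w) * ((x₀.1 : G)⁻¹ * (x.1 : G))⁻¹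
          = (x₀.1 : G)⁻¹ * ((x.1 : G) * ((x.2 : G) * w) * (x.1 : G)⁻¹) * (x₀.1 : G) := by group
        _ = _ := by rw [h1]; group
    have hin : ∀ x, f x = y → (x₀.1 : G)⁻¹ * (x.1 : G) ∈ C₁ := by
      intro x hx
      refine ⟨(mul_mem (inv_mem x₀.1.2) x.1.2 : _ ∈ A), ?_⟩
      have hpp : ∀ s : C₁, IsPPart p ((s : G) * w) w := fun s =>
        ⟨(s : G), (mem_centralizer_singleton_iff.mp s.2.2).symm,
          (mem_centralizer_singleton_iff.mp s.2.2).symm, hw,
          fun h => hA (h.trans (orderOf_dvd_natCard A s.2.1))⟩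
      have h2 := BlocksCore.isPPart_conj (hpp x.2) ((x₀.1 : G)⁻¹ * (x.1 : G))
      rw [hconj x hx] at h2
      exact mem_centralizer_singleton_iff.mpr
        (mul_inv_eq_iff_eq_mul.mp (BlocksCore.isPPart_unique hp.out h2 (hpp x₀.2)))
    rw [Nat.card_eq_fintype_card, ← Finset.card_univ]
    refine Finset.card_le_card_of_injOn
      (fun x => if h : f x = y then (⟨_, hin x h⟩ : C₁) else 1) (fun x _ => Finset.mem_univ _) ?_
    intro x hx x' hx' hxx
    simp only [Finset.coe_filter, Finset.mem_univ, true_and, Set.mem_ofPred_eq] at hx hx'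
    simp only [dif_pos hx, dif_pos hx'] at hxx
    have ha : x.1 = x'.1 := Subtype.ext (mul_left_cancel (congrArg Subtype.val hxx :))
    refine Prod.ext ha (Subtype.ext ?_)
    have h1 := (hconj x hx).trans (hconj x' hx').symm
    rw [ha] at h1
    exact mul_right_cancel (mul_left_cancel (mul_right_cancel h1))
  have hall : ∀ y : A, (Finset.univ.filter fun x => f x = y).card = Nat.card C₁ := by
    have h1 : ∑ y : A, (Finset.univ.filter fun x => f x = y).card = ∑ _y : A, Nat.card C₁ := by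
      rw [Finset.sum_const, Finset.card_univ, smul_eq_mul,
        ← Finset.card_eq_sum_card_fiberwise (fun x _ => Finset.mem_univ _), Finset.card_univ,
        Fintype.card_prod, Nat.card_eq_fintype_card]
    exact fun y => (Finset.sum_eq_sum_iff_of_le (fun y _ => hfib y)).mp h1 y (Finset.mem_univ _)
  have h2 : ∑ x : A × C₁, F ((f x : G) * w) = (Nat.card C₁ : ℂ) * ∑ a : A, F ((a : G) * w) := by
    rw [← Finset.sum_fiberwise Finset.univ f, Finset.mul_sum]
    refine Finset.sum_congr rfl fun y _ => ?_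
    rw [Finset.sum_congr rfl (g := fun _ => F ((y : G) * w)) fun x hx => by
      rw [(Finset.mem_filter.mp hx).2], Finset.sum_const, hall, nsmul_eq_mul]
  rw [← h2, Fintype.sum_prod_type]
  rw [Finset.sum_congr rfl fun a _ => Finset.sum_congr rfl fun s _ => show
    F ((f (a, s) : G) * w) = F ((s : G) * w) by
      show F ((a : G) * ((s : G) * w) * (a : G)⁻¹ * w⁻¹ * w) = _
      rw [inv_mul_cancel_right, hF],
    Finset.sum_const, Finset.card_univ, nsmul_eq_mul, Nat.card_eq_fintype_card]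

/-- The variance of a nonconstant function with natural values. -/
theorem sub_one_le_variance (m : ZMod p → ℕ) [NeZero p] (h : ∃ i j, m i ≠ m j) :
    (p : ℝ) - 1 ≤ (p : ℝ) * ∑ i, (m i : ℝ) ^ 2 - (∑ i, (m i : ℝ)) ^ 2 := by
  obtain ⟨i₀, -, hi₀⟩ := Finset.exists_max_image Finset.univ m Finset.univ_nonempty
  let u : ZMod p → ℝ := fun i => if m i = m i₀ then 1 else 0
  have hexp : ∀ v : ZMod p → ℝ, ∑ i, ∑ k, (v i - v k) ^ 2 =
      2 * ((p : ℝ) * ∑ i, v i ^ 2 - (∑ i, v i) ^ 2) := by
    intro v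
    simp only [sub_sq, Finset.sum_add_distrib, Finset.sum_sub_distrib, Finset.sum_const,
      Finset.card_univ, ZMod.card, nsmul_eq_mul]
    rw [← Finset.mul_sum]
    simp only [← Finset.sum_mul, ← Finset.mul_sum]
    ring
  have hle : ∀ i k, (u i - u k) ^ 2 ≤ ((m i : ℝ) - m k) ^ 2 := by
    intro i k
    have hsq : ∀ a b : ℕ, a ≠ b → (1 : ℝ) ≤ ((a : ℝ) - b) ^ 2 := fun a b hab => by
      rcases Nat.lt_or_gt_of_ne hab with h | h
      · have : (a : ℝ) + 1 ≤ b := by exact_mod_cast h
        nlinarith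
      · have : (b : ℝ) + 1 ≤ a := by exact_mod_cast h
        nlinarith
    simp only [u]
    by_cases h1 : m i = m i₀ <;> by_cases h2 : m k = m i₀
    · rw [if_pos h1, if_pos h2]; simp [sq_nonneg]
    · rw [if_pos h1, if_neg h2]
      simpa using hsq (m i) (m k) (fun h => h2 (h.symm.trans h1))
    · rw [if_neg h1, if_pos h2]
      simpa using hsq (m i) (m k) (fun h => h1 (h.trans h2))
    · rw [if_neg h1, if_neg h2]; simp [sq_nonneg]
  have h1 := Finset.sum_le_sum (s := Finset.univ) fun i _ =>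
    Finset.sum_le_sum (s := Finset.univ) fun k _ => hle i k
  rw [hexp, hexp] at h1
  set a : ℕ := (Finset.univ.filter fun i => m i = m i₀).card with ha
  have hu1 : ∑ i, u i = (a : ℝ) := by rw [ha, Finset.sum_boole]
  have hu2 : ∑ i, u i ^ 2 = (a : ℝ) := by
    rw [← hu1]
    exact Finset.sum_congr rfl fun i _ => by simp only [u]; split_ifs <;> norm_num
  rw [hu1, hu2] at h1
  have ha1 : (1 : ℝ) ≤ a := by
    exact_mod_cast Finset.card_pos.mpr ⟨i₀, by simp⟩
  have ha2 : (a : ℝ) + 1 ≤ p := by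
    have : a < (Finset.univ : Finset (ZMod p)).card := by
      refine Finset.card_lt_card (Finset.ssubset_iff_subset_ne.mpr ⟨Finset.filter_subset _ _, ?_⟩)
      intro he
      obtain ⟨i, j, hij⟩ := h
      have hi := (Finset.filter_eq_self.mp he) i (Finset.mem_univ i)
      have hj := (Finset.filter_eq_self.mp he) j (Finset.mem_univ j)
      exact hij (hi.trans hj.symm)
    rw [Finset.card_univ, ZMod.card] at this
    exact_mod_cast this
  nlinarith [mul_nonneg (sub_nonneg.mpr ha1) (sub_nonneg.mpr ha2)]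

variable [NeZero p]

/-- An element of order `p` commuting with a subgroup gives a homomorphism. -/
noncomputable def cycHom {C : Subgroup G} {w : G} (hw : w ^ p = 1)
    (hcomm : ∀ s ∈ C, Commute s w) : C × Multiplicative (ZMod p) →* G where
  toFun x := (x.1 : G) * w ^ (Multiplicative.toAdd x.2).val
  map_one' := by simp
  map_mul' x y := by
    rw [Prod.fst_mul, Prod.snd_mul, toAdd_mul, ZMod.val_add, ← pow_eq_pow_mod _ hw, pow_add,
      Subgroup.coe_mul]
    have h := (hcomm y.1 y.1.2).pow_right (Multiplicative.toAdd x.2).val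
    simp only [mul_assoc]
    rw [← mul_assoc (y.1 : G), h.eq, mul_assoc]

/-- If every nontrivial translate has norm one, the character is a multiple of a single character
on all the translates. -/
theorem exists_single {C : Subgroup G} {w : G} (hw : w ^ p = 1)
    (hcomm : ∀ s ∈ C, Commute s w) (χ : IrrCharacter G)
    (hnorm : ∀ j : ZMod p, j ≠ 0 → ∑ s : C, (χ : G → ℂ) ((s : G) * w ^ j.val) *
      conj ((χ : G → ℂ) ((s : G) * w ^ j.val)) = (Nat.card C : ℂ)) :
    ∃ (ν : IrrCharacter C) (c : ZMod p → ℂ), ∀ j, j ≠ 0 →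
      c j ≠ 0 ∧ ∀ s : C, (χ : G → ℂ) ((s : G) * w ^ j.val) = c j * (ν : C → ℂ) s := by
  let f : ZMod p → C → ℂ := fun j s => (χ : G → ℂ) ((s : G) * w ^ j.val)
  have hfc : ∀ j, IsClassFunction C (f j) := by
    intro j s t
    show (χ : G → ℂ) (((t * s * t⁻¹ : C) : G) * w ^ j.val) = (χ : G → ℂ) ((s : G) * w ^ j.val)
    rw [← BlocksCore.irr_class χ ((s : G) * w ^ j.val) (t : G)]
    congr 1
    push_cast
    rw [mul_assoc, mul_assoc, ((hcomm _ (inv_mem t.2)).pow_right _).eq]
    group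
  let cc : IrrCharacter C → ZMod p → ℂ := fun ν j => classInner (f j) ν
  let ψ : AddChar (ZMod p) ℂ := ZMod.stdAddChar
  have hψconj : ∀ a, conj (ψ a) = ψ (-a) := fun a => by
    rw [← Complex.inv_eq_conj (by simp [ψ, ZMod.stdAddChar_apply, Circle.norm_coe]), AddChar.map_neg_eq_inv]
  have hm : ∀ (ν : IrrCharacter C) (i : ZMod p),
      ∃ m : ℕ, ∑ j, ψ (-(i * j)) * cc ν j = (p : ℂ) * m := by
    intro ν i
    let Φ := cycHom (p := p) hw hcomm
    let lam : Multiplicative (ZMod p) →* ℂˣ :=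
      ((ZMod.stdAddChar (N := p)).mulShift i).toMonoidHom.toHomUnits
    obtain ⟨m, hm⟩ := CharCore.IsCharacter.exists_classInner_eq_natCast
      (CharCore.isCharacter_comp (CharCore.irr_isCharacter χ) Φ)
      (CharCore.isCharacter_mul
        (CharCore.isCharacter_comp (CharCore.irr_isCharacter ν) (MonoidHom.fst C _))
        (CharCore.isCharacter_comp (CharCore.IsIrrCharacter.isCharacter
          (CharCore.isIrrCharacter_hom lam)) (MonoidHom.snd C (Multiplicative (ZMod p)))))
    refine ⟨m, ?_⟩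
    rw [← hm, CharCore.classInner_def, Nat.card_prod, Nat.cast_mul]
    simp only [cc, CharCore.classInner_def, Finset.mul_sum]
    rw [Fintype.sum_prod_type]
    conv_rhs => rw [Finset.sum_comm]
    refine Fintype.sum_equiv Multiplicative.ofAdd _ _ fun j => Finset.sum_congr rfl fun s _ => ?_
    have hC : (Nat.card C : ℂ) ≠ 0 := Nat.cast_ne_zero.mpr Nat.card_pos.ne'
    have hp' : (p : ℂ) ≠ 0 := Nat.cast_ne_zero.mpr hp.out.ne_zero
    have hcZ : (Nat.card (Multiplicative (ZMod p)) : ℂ) = p := by simp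
    have hl : conj ((lam (Multiplicative.ofAdd j) : ℂ)) = ψ (-(i * j)) := hψconj (i * j)
    simp only [Pi.mul_apply, Function.comp_apply, map_mul]
    rw [hcZ]
    show _ = (p : ℂ) * (((Nat.card C : ℂ) * p)⁻¹ * ((χ : G → ℂ) ((s : G) * w ^ j.val) *
      (conj ((ν : C → ℂ) s) * conj ((lam (Multiplicative.ofAdd j) : ℂ)))))
    rw [hl]
    field_simp
    ring
  choose m hm using hm
  have hinv : ∀ ν j, cc ν j = ∑ i, ψ (i * j) * (m ν i : ℂ) := by
    intro ν j
    have hp' : (p : ℂ) ≠ 0 := Nat.cast_ne_zero.mpr hp.out.ne_zero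
    refine mul_left_cancel₀ hp' ?_
    rw [Finset.mul_sum, Finset.sum_congr rfl fun i _ => show
      (p : ℂ) * (ψ (i * j) * (m ν i : ℂ)) = ∑ k, ψ (i * (j - k)) * cc ν k by
        rw [mul_left_comm, ← hm, Finset.mul_sum]
        refine Finset.sum_congr rfl fun k _ => ?_
        rw [← mul_assoc, ← AddChar.map_add_eq_mul]
        congr 2
        ring, Finset.sum_comm, Finset.sum_eq_single j]
    · simp
    · intro k _ hk
      rw [← Finset.sum_mul]
      have h := AddChar.sum_mulShift (j - k) (ZMod.isPrimitive_stdAddChar p)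
      rw [if_neg (sub_ne_zero.mpr (Ne.symm hk))] at h
      push_cast at h
      rw [show ∑ i, ψ (i * (j - k)) = 0 from h, zero_mul]
    · exact fun h => absurd (Finset.mem_univ _) h
  let D : IrrCharacter C → ℝ := fun ν =>
    ∑ j ∈ (Finset.univ : Finset (ZMod p)).erase 0, Complex.normSq (cc ν j)
  have hD : ∀ ν, D ν = (p : ℝ) * ∑ i, (m ν i : ℝ) ^ 2 - (∑ i, (m ν i : ℝ)) ^ 2 := by
    intro ν
    refine Complex.ofReal_injective ?_
    have hall : ∑ j, cc ν j * conj (cc ν j) = (p : ℂ) * ∑ i, (m ν i : ℂ) ^ 2 := by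
      have e : ∀ j, conj (cc ν j) = ∑ i, ψ (-(i * j)) * (m ν i : ℂ) := fun j => by
        rw [hinv, map_sum]
        exact Finset.sum_congr rfl fun i _ => by rw [map_mul, hψconj, Complex.conj_natCast]
      rw [Finset.sum_congr rfl fun j _ => by rw [e, Finset.mul_sum], Finset.sum_comm, Finset.mul_sum]
      refine Finset.sum_congr rfl fun i _ => ?_
      rw [Finset.sum_congr rfl fun j _ => show cc ν j * (ψ (-(i * j)) * (m ν i : ℂ)) =
        (ψ (-(i * j)) * cc ν j) * (m ν i : ℂ) by ring, ← Finset.sum_mul, hm]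
      ring
    rw [← Finset.add_sum_erase _ _ (Finset.mem_univ (0 : ZMod p))] at hall
    have h0 : cc ν 0 = ∑ i, (m ν i : ℂ) := by simp [hinv]
    simp only [D]
    push_cast
    rw [Finset.sum_congr rfl fun j _ => (Complex.mul_conj (cc ν j)).symm]
    rw [h0, map_sum] at hall
    simp only [Complex.conj_natCast] at hall
    linear_combination hall
  have hsum : ∑ ν, D ν = (p : ℝ) - 1 := by
    simp only [D]
    rw [Finset.sum_comm]
    have h1 : ∀ j ∈ (Finset.univ : Finset (ZMod p)).erase 0,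
        ∑ ν, Complex.normSq (cc ν j) = (1 : ℝ) := fun j hj => by
      have h := CharCore.classInner_eq_sum (hfc j) (hfc j)
      rw [CharCore.classInner_def, hnorm j (Finset.mem_erase.mp hj).1,
        inv_mul_cancel₀ (Nat.cast_ne_zero.mpr Nat.card_pos.ne')] at h
      refine Complex.ofReal_injective ?_
      push_cast
      exact (Finset.sum_congr rfl fun ν _ => (Complex.mul_conj _).symm).trans h.symm
    rw [Finset.sum_congr rfl h1, Finset.sum_const, nsmul_eq_mul, mul_one,
      Finset.card_erase_of_mem (Finset.mem_univ _), Finset.card_univ, ZMod.card,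
      Nat.cast_sub hp.out.one_le, Nat.cast_one]
  have hbig : ∀ ν, D ν ≠ 0 → (p : ℝ) - 1 ≤ D ν := by
    intro ν hν
    rw [hD]
    refine sub_one_le_variance (m ν) ?_
    by_contra hcon
    push Not at hcon
    refine hν ?_
    rw [hD, Finset.sum_congr rfl fun i _ => show (m ν i : ℝ) ^ 2 = (m ν 0 : ℝ) ^ 2 by
        rw [hcon i 0], Finset.sum_congr rfl fun i _ => show (m ν i : ℝ) = (m ν 0 : ℝ) by
        rw [hcon i 0]]
    simp
    ring
  obtain ⟨ν, hν⟩ : ∃ ν, D ν ≠ 0 := by
    by_contra hcon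
    push Not at hcon
    rw [Finset.sum_eq_zero fun ν _ => hcon ν] at hsum
    have : (2 : ℝ) ≤ p := by exact_mod_cast hp.out.two_le
    linarith
  have hDnn : ∀ μ, 0 ≤ D μ := fun μ => Finset.sum_nonneg fun j _ => Complex.normSq_nonneg _
  have hzero : ∀ μ, μ ≠ ν → ∀ j, j ≠ 0 → cc μ j = 0 := by
    intro μ hμ j hj
    have h1 := hbig ν hν
    rw [← Finset.add_sum_erase _ _ (Finset.mem_univ ν)] at hsum
    have h2 : ∑ x ∈ (Finset.univ : Finset (IrrCharacter C)).erase ν, D x = 0 :=
      le_antisymm (by linarith) (Finset.sum_nonneg fun x _ => hDnn x)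
    have h3 := (Finset.sum_eq_zero_iff_of_nonneg fun x _ => hDnn x).mp h2 μ
      (Finset.mem_erase.mpr ⟨hμ, Finset.mem_univ _⟩)
    exact Complex.normSq_eq_zero.mp ((Finset.sum_eq_zero_iff_of_nonneg
      fun j _ => Complex.normSq_nonneg _).mp h3 j (Finset.mem_erase.mpr ⟨hj, Finset.mem_univ _⟩))
  refine ⟨ν, cc ν, fun j hj => ?_⟩
  have hval : ∀ s : C, f j s = cc ν j * (ν : C → ℂ) s := fun s => by
    have h := congrFun (CharCore.eq_sum_classInner (hfc j)) s
    simp only [Finset.sum_apply, Pi.smul_apply, smul_eq_mul] at h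
    rw [h, Finset.sum_eq_single ν (fun μ _ hμ => by
      rw [show classInner (f j) μ = 0 from hzero μ hμ j hj, zero_mul])
      fun h => absurd (Finset.mem_univ _) h]
  refine ⟨fun h0 => ?_, hval⟩
  have h := hnorm j hj
  rw [Finset.sum_eq_zero fun s _ => show f j s * conj (f j s) = 0 by
    rw [hval, h0, zero_mul, zero_mul]] at h
  exact (Nat.cast_ne_zero.mpr Nat.card_pos.ne') h.symm

end Cfsg.Agent.ExtClosed29
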