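import Cfsg.Agent.ExtClosed29.Sections
import Cfsg.Agent.ZStar.Blocks
import Cfsg.Agent.Lib.Thompson.Cores
import Cfsg.Agent.Lib.Transfer.Hall
import Cfsg.Agent.BC86.Modular

/-!
# An extremely closed abelian `p`-subgroup, `p` odd: the factorization
-/

set_option autoImplicit false
set_option linter.unusedSectionVars false

namespace Cfsg.Agent.ExtClosed29

open Cfsg Subgroup
open scoped Classical

variable {G : Type*} [Group G] {p : ℕ} {H : Subgroup G}

theorem comm_subgroupOf (hHab : IsMulCommutative H) (R : Subgroup G) :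
    IsMulCommutative (H.subgroupOf R) :=
  ⟨⟨fun a b => Subtype.ext (Subtype.ext
    (congrArg Subtype.val (hHab.is_comm.comm (⟨((a : R) : G), a.2⟩ : H) ⟨((b : R) : G), b.2⟩) :))⟩⟩

theorem comm_map (hHab : IsMulCommutative H) {Q : Type*} [Group Q] (f : G →* Q) :
    IsMulCommutative (H.map f) :=
  ⟨⟨fun a b => by
    obtain ⟨x, hx, hxa⟩ := a.2
    obtain ⟨y, hy, hyb⟩ := b.2
    refine Subtype.ext ?_
    show (a : Q) * b = b * a
    rw [← hxa, ← hyb, ← map_mul, ← map_mul]
    exact congrArg f (congrArg Subtype.val (hHab.is_comm.comm (⟨x, hx⟩ : H) ⟨y, hy⟩))⟩⟩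

theorem isPGroup_subgroupOf (hHp : IsPGroup p H) (R : Subgroup G) :
    IsPGroup p (H.subgroupOf R) :=
  hHp.comap_of_injective R.subtype R.subtype_injective

variable [Finite G] [hp : Fact p.Prime]

/-- Every element is a product of one in the normal closure and one in the normalizer. -/
theorem exists_normalClosure_mul (hHp : IsPGroup p H) (hHab : IsMulCommutative H)
    (hcl : IsExtremelyClosed H) (g : G) :
    ∃ k ∈ normalClosure (H : Set G), ∃ n ∈ normalizer (H : Set G), g = k * n := by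
  obtain ⟨K, n, hn, S, hk, -⟩ := exists_split hHp hHab hcl g
  refine ⟨g * n⁻¹, ?_, n, hn, (inv_mul_cancel_right g n).symm⟩
  refine (sup_le Subgroup.le_normalClosure ?_ :
    H ⊔ H.map (MulAut.conj g).toMonoidHom ≤ normalClosure (H : Set G)) (S.hKX hk)
  rintro _ ⟨t, ht, rfl⟩
  exact normalClosure_normal.conj_mem t (Subgroup.le_normalClosure ht) g

/-- A normal subgroup containing a central `p`-subgroup with `p'`-index splits. -/
theorem le_sup_pPrimeCore_of_central {Z M : Subgroup G} [M.Normal] (hZM : Z ≤ M)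
    (hZp : IsPGroup p Z) (hZc : Z ≤ Subgroup.center G) (hidx : ¬ p ∣ (Z.subgroupOf M).index) :
    M ≤ Z ⊔ pPrimeCore p G := by
  set Z' := Z.subgroupOf M
  obtain ⟨n, hn⟩ := (isPGroup_subgroupOf hZp M).exists_card_eq
  have hHall : Nat.Coprime (Nat.card Z') Z'.index := by
    rw [hn]; exact Nat.Coprime.pow_left _ (hp.out.coprime_iff_not_dvd.mpr hidx)
  obtain ⟨A, hAn, hA⟩ := Transfer.exists_normal_complement_of_hall_central Z' hHall
    (fun x _ => mem_centralizer_iff.mpr fun y hy => Subtype.ext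
      ((Subgroup.mem_center_iff.mp (hZc hy) (x : G)).symm))
  have hAc : ¬ p ∣ Nat.card A := hA.index_eq_card ▸ hidx
  have hmem : ∀ x : M, ¬ p ∣ orderOf x → x ∈ A := by
    intro x hx
    obtain ⟨⟨a, z⟩, rfl⟩ := hA.2 x
    have hcomm : Commute (a : M) z := Subtype.ext (Subgroup.mem_center_iff.mp (hZc z.2) (a : M))
    set m := orderOf ((a : M) * z)
    have h1 : (a : M) ^ m * (z : M) ^ m = 1 := by rw [← hcomm.mul_pow, pow_orderOf_eq_one]
    have h2 : (z : M) ^ m = 1 := disjoint_def.mp hA.disjoint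
      (eq_inv_of_mul_eq_one_right h1 ▸ inv_mem (pow_mem a.2 m)) (pow_mem z.2 m)
    obtain ⟨j, hj⟩ := IsPGroup.iff_orderOf.mp (isPGroup_subgroupOf hZp M) z
    rw [← Subgroup.orderOf_coe] at hj
    have h3 : (z : M) = 1 := by
      rw [← orderOf_eq_one_iff]
      refine Nat.dvd_one.mp ?_
      have hcop : Nat.Coprime (orderOf (z : M)) m := by
        rw [hj]; exact Nat.Coprime.pow_left _ (hp.out.coprime_iff_not_dvd.mpr hx)
      exact hcop ▸ Nat.dvd_gcd dvd_rfl (orderOf_dvd_iff_pow_eq_one.mpr h2)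
    show (a : M) * (z : M) ∈ A
    rw [h3, mul_one]
    exact a.2
  have hnorm : (A.map M.subtype).Normal := ⟨by
    rintro _ ⟨a, ha, rfl⟩ g
    refine ⟨⟨g * a * g⁻¹, (inferInstance : M.Normal).conj_mem _ a.2 g⟩, hmem _ ?_, rfl⟩
    rw [← Subgroup.orderOf_coe]
    show ¬ p ∣ orderOf (MulAut.conj g (a : G))
    rw [MulEquiv.orderOf_eq, Subgroup.orderOf_coe]
    exact fun h => hAc (h.trans (orderOf_dvd_natCard A ha))⟩
  intro x hx
  obtain ⟨⟨a, z⟩, he⟩ := hA.2 ⟨x, hx⟩
  have he' : ((a : M) : G) * ((z : M) : G) = x := congrArg Subtype.val he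
  rw [← he']
  refine mul_mem (mem_sup_right (Thompson.le_pPrimeCore hnorm ?_ ⟨a, a.2, rfl⟩)) (mem_sup_left z.2)
  rw [← Nat.card_congr (A.equivMapOfInjective _ M.subtype_injective).toEquiv]
  exact Nat.Coprime.symm (hp.out.coprime_iff_not_dvd.mpr hAc)

/-- The section data of a nontrivial element of `H` with factorised centralizer. -/
theorem exists_sectionData (hHp : IsPGroup p H) (hHab : IsMulCommutative H) {w : G}
    (hw : w ∈ H)
    (hfac : normalizer ((H.subgroupOf (centralizer ({w} : Set G)) :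
      Subgroup (centralizer ({w} : Set G))) : Set (centralizer ({w} : Set G))) ⊔
      pPrimeCore p (centralizer ({w} : Set G)) = ⊤) :
    ∃ O : Subgroup G, ZStar.SectionData p w O ∧
      ∀ X K : Subgroup G, Split p H X K → ∀ s ∈ K, Commute w s → s ∈ O := by
  set C := centralizer ({w} : Set G) with hC
  have hHC : H ≤ C := fun a ha => mem_centralizer_singleton_iff.mpr
    (congrArg Subtype.val (hHab.is_comm.comm (⟨a, ha⟩ : H) ⟨w, hw⟩))
  set O₀ := pPrimeCore p C with hO₀
  set O := O₀.map C.subtype with hO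
  have hcop : ¬ p ∣ Nat.card O := by
    rw [hO, ← Nat.card_congr (O₀.equivMapOfInjective _ C.subtype_injective).toEquiv]
    exact Thompson.not_dvd_card_pPrimeCore
  have hnormal : ∀ c ∈ C, ∀ o ∈ O, c * o * c⁻¹ ∈ O := by
    rintro c hc _ ⟨o, ho, rfl⟩
    exact ⟨⟨c, hc⟩ * o * ⟨c, hc⟩⁻¹,
      (inferInstance : (pPrimeCore p C).Normal).conj_mem o ho _, rfl⟩
  refine ⟨O, ⟨?_, map_subtype_le _, ?_, hcop⟩, ?_⟩
  · obtain ⟨k, hk⟩ := IsPGroup.iff_orderOf.mp hHp ⟨w, hw⟩
    exact ⟨k, by rwa [Subgroup.orderOf_mk] at hk⟩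
  · intro c hc
    refine mem_normalizer_iff.mpr fun o => ⟨hnormal c hc o, fun h => ?_⟩
    have := hnormal c⁻¹ (inv_mem hc) _ h
    rwa [show c⁻¹ * (c * o * c⁻¹) * c⁻¹⁻¹ = o by group] at this
  · intro X K S s hs hws
    have hsC : s ∈ C := mem_centralizer_singleton_iff.mpr hws.eq.symm
    refine mem_of_commutator_mem hHp S.cop (fun h hh => fun k hk => S.conj_mem hh hk) S.fix
      (fun h hh => hnormal h (hHC hh)) hs fun h hh => ?_
    have hmem : (⟨s, hsC⟩ : C) ∈
        normalizer ((H.subgroupOf C : Subgroup C) : Set C) ⊔ O₀ := by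
      rw [hfac]; exact Subgroup.mem_top _
    obtain ⟨n, hn, o, ho, hno⟩ := mem_sup_of_normal_right.mp hmem
    set hC' : C := ⟨h, hHC hh⟩ with hhC'
    set a : C := hC' * n * hC'⁻¹ * n⁻¹ with ha
    set b : C := n * (hC' * o * hC'⁻¹ * o⁻¹) * n⁻¹ with hb
    have hhH : hC' ∈ H.subgroupOf C := hh
    have haH : a ∈ H.subgroupOf C := by
      rw [ha, show hC' * n * hC'⁻¹ * n⁻¹ = hC' * (n * hC'⁻¹ * n⁻¹) by group]
      exact mul_mem hhH ((mem_normalizer_iff.mp hn _).mp (inv_mem hhH))
    have hbO : b ∈ O₀ := by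
      have hN : O₀.Normal := inferInstance
      exact hN.conj_mem _ (mul_mem (hN.conj_mem o ho hC') (inv_mem ho)) n
    have hab : a * b = hC' * ⟨s, hsC⟩ * hC'⁻¹ * (⟨s, hsC⟩ : C)⁻¹ := by
      rw [← hno, ha, hb]; group
    have habK : ¬ p ∣ orderOf (a * b) := by
      rw [hab, ← Subgroup.orderOf_coe]
      push_cast
      exact fun h' => S.cop
        (h'.trans (orderOf_dvd_natCard K (mul_mem (S.conj_mem hh hs) (inv_mem hs))))
    have haO : a ∈ O₀ := by
      rw [← QuotientGroup.eq_one_iff, ← orderOf_eq_one_iff]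
      refine Nat.dvd_one.mp ?_
      obtain ⟨j, hj⟩ := IsPGroup.iff_orderOf.mp (isPGroup_subgroupOf hHp C) ⟨a, haH⟩
      rw [Subgroup.orderOf_mk] at hj
      have hcop' : Nat.Coprime (p ^ j) (orderOf (a * b)) :=
        Nat.Coprime.pow_left _ (hp.out.coprime_iff_not_dvd.mpr habK)
      refine hcop' ▸ Nat.dvd_gcd (hj ▸ orderOf_map_dvd (QuotientGroup.mk' O₀) a) ?_
      have := orderOf_map_dvd (QuotientGroup.mk' O₀) (a * b)
      rwa [map_mul, QuotientGroup.mk'_apply, QuotientGroup.mk'_apply,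
        (QuotientGroup.eq_one_iff b).mpr hbO, mul_one] at this
    exact ⟨a * b, mul_mem haO hbO, by rw [hab]; rfl⟩

universe u

/-- The factorization. -/
theorem normalizer_sup_pPrimeCore (hp2 : p ≠ 2) : ∀ (n : ℕ) {G : Type u} [Group G] [Finite G],
    Nat.card G = n → ∀ {H : Subgroup G}, IsPGroup p H → IsMulCommutative H →
      IsExtremelyClosed H → normalizer (H : Set G) ⊔ pPrimeCore p G = ⊤ := by
  intro n
  induction n using Nat.strong_induction_on with
  | _ n ih =>
  intro G _ _ hcard H hHp hHab hcl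
  set N := normalizer (H : Set G) with hN
  by_cases hNtop : N = ⊤
  · rw [hNtop, top_sup_eq]
  have hR0 := exists_normalClosure_mul hHp hHab hcl
  set R := normalClosure (H : Set G) with hR
  by_cases hRtop : R = ⊤
  swap
  · -- induction inside the normal closure
    have hHR : H ≤ R := Subgroup.le_normalClosure
    have h := ih (Nat.card R) (hcard ▸ lt_of_le_of_ne (card_le_card_group R)
      (fun e => hRtop (card_eq_iff_eq_top R |>.mp e))) rfl (isPGroup_subgroupOf hHp R)
      (comm_subgroupOf hHab R) (subgroupOf hcl hHR)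
    haveI : R.Normal := normalClosure_normal
    rw [← subgroupOf_normalizer_eq hHR] at h
    refine eq_top_iff.mpr fun g _ => ?_
    obtain ⟨k, hk, m, hm, rfl⟩ := hR0 g
    refine mul_mem ?_ (mem_sup_left hm)
    have hk' : (k : G) ∈ ((N.subgroupOf R) ⊔ pPrimeCore p R).map R.subtype := by
      rw [h]; exact ⟨⟨k, hk⟩, Subgroup.mem_top _, rfl⟩
    rw [Subgroup.map_sup] at hk'
    exact (sup_le_sup ((subgroupOf_map_subtype N R).le.trans inf_le_left)
      (Thompson.map_pPrimeCore_normal_le R)) hk'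
  by_cases hZ : H ⊓ Subgroup.center G = ⊥
  swap
  · -- pass to the quotient by the central elements of `H`
    set Z := H ⊓ Subgroup.center G with hZdef
    have hZc : Z ≤ Subgroup.center G := inf_le_right
    haveI : Z.Normal := ⟨fun x hx g => by
      rwa [Subgroup.mem_center_iff.mp (hZc hx) g, mul_inv_cancel_right]⟩
    set f := QuotientGroup.mk' Z with hf
    have hker : f.ker ≤ H := by rw [hf, QuotientGroup.ker_mk']; exact inf_le_left
    have hlt : Nat.card (G ⧸ Z) < n := by
      rw [← hcard, Z.card_eq_card_quotient_mul_card_subgroup]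
      exact (Nat.lt_mul_iff_one_lt_right Nat.card_pos).mpr
        (Z.one_lt_card_iff_ne_bot.mpr hZ)
    have h := ih _ hlt rfl (hHp.map f) (comm_map hHab f)
      (map_of_ker_le hcl f (QuotientGroup.mk'_surjective Z) hker)
    set M := (pPrimeCore p (G ⧸ Z)).comap f with hM
    haveI : M.Normal := (inferInstance : (pPrimeCore p (G ⧸ Z)).Normal).comap f
    have hZM : Z ≤ M := fun x hx => by
      rw [hM, mem_comap, hf, QuotientGroup.mk'_apply, (QuotientGroup.eq_one_iff x).mpr hx]
      exact one_mem _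
    have hidx : ¬ p ∣ (Z.subgroupOf M).index := by
      have h1 := (Z.subgroupOf M).card_mul_index
      rw [Nat.card_congr (subgroupOfEquivOfLe hZM).toEquiv] at h1
      conv_rhs at h1 => rw [hM, hf, Thompson.card_comap_quotient, mul_comm]
      rw [mul_left_cancel₀ Nat.card_pos.ne' h1]
      exact Thompson.not_dvd_card_pPrimeCore
    have hMle := le_sup_pPrimeCore_of_central hZM (hHp.to_le inf_le_left) hZc hidx
    refine eq_top_iff.mpr fun g _ => ?_
    have hg : f g ∈ normalizer ((H.map f : Subgroup (G ⧸ Z)) : Set (G ⧸ Z)) ⊔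
        pPrimeCore p (G ⧸ Z) := by rw [h]; exact Subgroup.mem_top _
    obtain ⟨x, hx, y, hy, hxy⟩ := mem_sup_of_normal_right.mp hg
    obtain ⟨x', rfl⟩ := QuotientGroup.mk'_surjective Z x
    have hxN : x' ∈ N := by
      rw [hN, ← comap_normalizer_map f (QuotientGroup.mk'_surjective Z) hker, mem_comap]
      exact hx
    have hyM : x'⁻¹ * g ∈ M := by
      rw [hM, mem_comap, map_mul, map_inv, ← hxy, inv_mul_cancel_left]
      exact hy
    rw [show g = x' * (x'⁻¹ * g) by group]
    refine mul_mem (mem_sup_left hxN) ?_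
    exact (sup_le_sup (inf_le_left.trans le_normalizer : Z ≤ N) le_rfl) (hMle hyM)
  -- the main case
  have hne : H ≠ ⊥ := by
    rintro rfl
    exact hNtop (normalizer_eq_top_iff.mpr inferInstance)
  obtain ⟨M, hM⟩ := BC86.exists_isPModular hp.out
  letI := Fintype.ofFinite G
  have hc : Const p M H := by
    intro X K S w hw hw1 s hs hws χ hχ
    set C := centralizer ({w} : Set G) with hC
    have hHC : H ≤ C := fun a ha => mem_centralizer_singleton_iff.mpr
      (congrArg Subtype.val (hHab.is_comm.comm (⟨a, ha⟩ : H) ⟨w, hw⟩))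
    have hClt : C ≠ ⊤ := fun e => hw1 (by
      have : w ∈ H ⊓ Subgroup.center G := ⟨hw, Subgroup.mem_center_iff.mpr fun g => by
        have hg : g ∈ C := e ▸ Subgroup.mem_top g
        exact mem_centralizer_singleton_iff.mp hg⟩
      rwa [hZ, Subgroup.mem_bot] at this)
    have h := ih (Nat.card C) (hcard ▸ lt_of_le_of_ne (card_le_card_group C)
      (fun e => hClt (card_eq_iff_eq_top C |>.mp e))) rfl (isPGroup_subgroupOf hHp C)
      (comm_subgroupOf hHab C) (subgroupOf hcl hHC)
    obtain ⟨O, hO, hmem⟩ := exists_sectionData hHp hHab hw h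
    exact ZStar.apply_mul_eq hM hO hχ (hmem X K S s hs hws)
  obtain ⟨hq, hNC⟩ := sylow_and_central hM hp2 hHp hHab hcl hc hRtop hne
  obtain ⟨P, hP⟩ := hHp.exists_le_sylow
  have hPH : H = (P : Subgroup G) := Subgroup.eq_of_le_of_card_ge hP
    (by rw [hq, Sylow.card_eq_multiplicity P])
  have hPc : normalizer ((P : Subgroup G) : Set G) ≤ centralizer ((P : Subgroup G) : Set G) := by
    rw [← hPH]; exact hNC
  have hc' := MonoidHom.ker_transferSylow_isComplement' P hPc
  refine eq_top_iff.mpr fun g _ => ?_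
  obtain ⟨⟨k, h⟩, rfl⟩ := hc'.2 g
  refine mul_mem (mem_sup_right ?_) (mem_sup_left (le_normalizer (hPH.symm.le h.2)))
  exact Thompson.le_pPrimeCore (MonoidHom.normal_ker _) (Nat.Coprime.symm
    (hp.out.coprime_iff_not_dvd.mpr (MonoidHom.not_dvd_card_ker_transferSylow P hPc))) k.2

end Cfsg.Agent.ExtClosed29
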