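import Cfsg.Agent.ExtClosed29.PartOne
import Cfsg.Agent.ExtClosed29.CharLemmas
import Cfsg.Agent.CharDeep.Ext.Wrap
import Cfsg.Agent.Lib.BlocksDefect.Kernel
import Cfsg.Agent.Lib.CharClifford.Eigen

/-!
# An extremely closed abelian `p`-subgroup, `p` odd: the normal closure
-/

set_option autoImplicit false
set_option linter.unusedSectionVars false

namespace Cfsg.Agent.ExtClosed29

open Cfsg Subgroup
open scoped ComplexConjugate Classical

variable {G : Type*} [Group G] [Finite G] {p : ℕ} [hp : Fact p.Prime] {H : Subgroup G}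

/-- The centralizer data for the second part. -/
theorem exists_local (hHp : IsPGroup p H) (hHab : IsMulCommutative H) {A : Subgroup G} [A.Normal]
    (hHA : H ⊓ A = ⊥) (hcommA : ∀ x y : G, x * y * x⁻¹ * y⁻¹ ∈ A) {w : G} (hw : w ∈ H)
    (ih : normalClosure ((H.subgroupOf (centralizer ({w} : Set G)) :
        Subgroup (centralizer ({w} : Set G))) : Set (centralizer ({w} : Set G))) ⊓
      normalizer ((H.subgroupOf (centralizer ({w} : Set G)) :
        Subgroup (centralizer ({w} : Set G))) : Set (centralizer ({w} : Set G))) =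
      H.subgroupOf (centralizer ({w} : Set G))) :
    ∃ D : Subgroup G, D ≤ A ⊓ centralizer ({w} : Set G) ∧
      (∀ c ∈ centralizer ({w} : Set G), ∀ d ∈ D, c * d * c⁻¹ ∈ D) ∧
      (∀ d ∈ D, (∀ h ∈ H, h * d = d * h) → d = 1) ∧
      (∀ h ∈ H, ∀ c ∈ centralizer ({w} : Set G), h * c * h⁻¹ * c⁻¹ ∈ D) ∧
      ∀ X K : Subgroup G, Split p H X K → ∀ s ∈ K, Commute w s → s ∈ D := by
  set C := centralizer ({w} : Set G) with hC
  have hHC : H ≤ C := fun a ha => mem_centralizer_singleton_iff.mpr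
    (congrArg Subtype.val (hHab.is_comm.comm (⟨a, ha⟩ : H) ⟨w, hw⟩))
  set R := normalClosure ((H.subgroupOf C : Subgroup C) : Set C) with hR
  set D := A ⊓ R.map C.subtype with hD
  have hDC : ∀ c ∈ C, ∀ d ∈ D, c * d * c⁻¹ ∈ D := by
    rintro c hc d ⟨hdA, r, hr, rfl⟩
    exact ⟨(inferInstance : A.Normal).conj_mem _ hdA c,
      ⟨c, hc⟩ * r * ⟨c, hc⟩⁻¹, normalClosure_normal.conj_mem r hr _, rfl⟩
  have hcomm : ∀ h ∈ H, ∀ c ∈ C, h * c * h⁻¹ * c⁻¹ ∈ D := by
    intro h hh c hc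
    refine ⟨hcommA h c, ⟨h, hHC hh⟩ * (⟨c, hc⟩ * ⟨h, hHC hh⟩⁻¹ * ⟨c, hc⟩⁻¹), ?_, ?_⟩
    · have hhR : (⟨h, hHC hh⟩ : C) ∈ R := Subgroup.subset_normalClosure hh
      exact mul_mem hhR (normalClosure_normal.conj_mem _ (inv_mem hhR) _)
    · show h * (c * h⁻¹ * c⁻¹) = _
      group
  refine ⟨D, le_inf inf_le_left (inf_le_right.trans (map_subtype_le R)), hDC, ?_, hcomm, ?_⟩
  · rintro d ⟨hdA, r, hr, rfl⟩ hfix
    have hN : r ∈ normalizer ((H.subgroupOf C : Subgroup C) : Set C) :=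
      centralizer_le_normalizer _ (mem_centralizer_iff.mpr fun h hh =>
        Subtype.ext (hfix (h : G) hh))
    have hH : (r : G) ∈ H := ih.le ⟨hr, hN⟩
    exact (Subgroup.mem_bot.mp (hHA.le ⟨hH, hdA⟩))
  · intro X K S s hs hws
    have hsC : s ∈ C := mem_centralizer_singleton_iff.mpr hws.eq.symm
    exact mem_of_commutator_mem hHp S.cop (fun h hh => fun k hk => S.conj_mem hh hk) S.fix
      (fun h hh => hDC h (hHC hh)) hs fun h hh => hcomm h hh s hsC

/-- The main step: no element of the normal `p`-complement is fixed by `H`. -/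
theorem no_fixed_points [Fintype G] (hp2 : p ≠ 2) (hHp : IsPGroup p H) (hHab : IsMulCommutative H)
    (hcl : IsExtremelyClosed H) {A : Subgroup G} [A.Normal] (hA : ¬ p ∣ Nat.card A)
    (hsup : ∀ g : G, ∃ h ∈ H, ∃ a ∈ A, g = h * a)
    (hR : normalClosure (H : Set G) = ⊤)
    (hZ : H ⊓ Subgroup.center G = ⊥)
    (ih : ∀ w ∈ H, w ≠ 1 →
      normalClosure ((H.subgroupOf (centralizer ({w} : Set G)) :
        Subgroup (centralizer ({w} : Set G))) : Set (centralizer ({w} : Set G))) ⊓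
      normalizer ((H.subgroupOf (centralizer ({w} : Set G)) :
        Subgroup (centralizer ({w} : Set G))) : Set (centralizer ({w} : Set G))) =
      H.subgroupOf (centralizer ({w} : Set G)))
    {c : G} (hcA : c ∈ A) (hcH : ∀ h ∈ H, h * c = c * h) : c = 1 := by
  by_contra hc1
  haveI : NeZero p := ⟨hp.out.ne_zero⟩
  have hcommH : ∀ a ∈ H, ∀ b ∈ H, a * b = b * a := fun a ha b hb =>
    congrArg Subtype.val (hHab.is_comm.comm (⟨a, ha⟩ : H) ⟨b, hb⟩)
  have hHA : H ⊓ A = ⊥ := Thompson.inf_eq_bot_of_isPGroup_of_coprime hHp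
    (Nat.Coprime.symm (hp.out.coprime_iff_not_dvd.mpr hA))
  -- the quotient by `A` is an abelian `p`-group
  have hsurj : Function.Surjective ((QuotientGroup.mk' A).comp H.subtype) := by
    intro x
    obtain ⟨g, rfl⟩ := QuotientGroup.mk'_surjective A x
    obtain ⟨h, hh, a, ha, rfl⟩ := hsup g
    refine ⟨⟨h, hh⟩, ?_⟩
    show QuotientGroup.mk' A h = QuotientGroup.mk' A (h * a)
    rw [map_mul, QuotientGroup.mk'_apply A a, (QuotientGroup.eq_one_iff a).mpr ha, mul_one]
  have hcommA : ∀ x y : G, x * y * x⁻¹ * y⁻¹ ∈ A := by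
    intro x y
    obtain ⟨a, ha⟩ := hsurj (QuotientGroup.mk' A x)
    obtain ⟨b, hb⟩ := hsurj (QuotientGroup.mk' A y)
    rw [← QuotientGroup.eq_one_iff]
    show QuotientGroup.mk' A (x * y * x⁻¹ * y⁻¹) = 1
    rw [map_mul, map_mul, map_mul, map_inv, map_inv, ← ha, ← hb, ← map_inv, ← map_inv, ← map_mul,
      ← map_mul, ← map_mul]
    convert map_one ((QuotientGroup.mk' A).comp H.subtype) using 2
    exact Subtype.ext (by push_cast; rw [hcommH a a.2 b b.2]; group)
  have hidx : ∃ k, A.index = p ^ k := (hHp.of_surjective _ hsurj).exists_card_eq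
  -- an invariant nontrivial character of `A` and its extension
  obtain ⟨θ, hθ1, hθinv⟩ := exists_invariant_irr hHp
    (fun h _ a ha => (inferInstance : A.Normal).conj_mem a ha h) hcA hc1 hcH
  have hInv : CharDeep.Ext.Inv A (θ : A → ℂ) := by
    intro g k
    obtain ⟨h, hh, a, ha, rfl⟩ := hsup g
    have h1 := hθinv h hh (⟨a, ha⟩ * k * ⟨a, ha⟩⁻¹)
      ⟨h * a * k * (h * a)⁻¹, (inferInstance : A.Normal).conj_mem (k : G) k.2 (h * a)⟩
      (by push_cast; group)
    rw [h1, BlocksCore.irr_class θ]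
  have hd : (θ : A → ℂ) 1 = (charDegree (θ : A → ℂ) : ℂ) := BlocksCore.irr_one_eq θ
  have hcop : Nat.Coprime A.index (detOrder (θ : A → ℂ) * charDegree (θ : A → ℂ)) := by
    obtain ⟨k, hk⟩ := hidx
    have hdvd : detOrder (θ : A → ℂ) ∣ Nat.card A := by
      rw [CharDeep.Ext.detOrder_eq]
      refine orderOf_dvd_of_pow_eq_one (MonoidHom.ext fun a => ?_)
      rw [MonoidHom.pow_apply, ← map_pow, pow_card_eq_one', map_one]
      rfl
    rw [hk]
    refine Nat.Coprime.pow_left _ (hp.out.coprime_iff_not_dvd.mpr fun hdiv => ?_)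
    rcases hp.out.dvd_mul.mp hdiv with h | h
    · exact hA (h.trans hdvd)
    · exact hA (h.trans (BlocksCore.charDegree_dvd_card θ))
  obtain ⟨χf, ⟨hχirr, hres, -⟩, -⟩ := CharDeep.Ext.exists_ext_detOrder A θ.2 hInv hd hcop
  set χ : IrrCharacter G := ⟨χf, hχirr⟩
  have hres' : ∀ a : A, (χ : G → ℂ) a = (θ : A → ℂ) a := hres
  have hAnorm : ∀ g : G, ∑ a : A, (χ : G → ℂ) ((a : G) * g) * conj ((χ : G → ℂ) ((a : G) * g)) =
      (Nat.card A : ℂ) := by
    intro g
    have hN : IsIrrCharacter A (fun n : A => (χ : G → ℂ) n) := by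
      rw [show (fun n : A => (χ : G → ℂ) n) = (θ : A → ℂ) from funext hres']
      exact θ.2
    have h := congrFun (CharDeep.Ext.avg_mul_conj_self χ.2 hN) g
    rw [CharDeep.Ext.avg_apply, Pi.one_apply, inv_mul_eq_iff_eq_mul₀ (CharDeep.Ext.natCard_ne _),
      mul_one] at h
    exact h
  -- values at elements of order `p`
  have hloc : ∀ t ∈ H, t ≠ 1 → t ^ p = 1 → (χ : G → ℂ) t ≠ 0 ∧
      ∀ X K : Subgroup G, Split p H X K → ∀ s ∈ K, Commute t s →
        (χ : G → ℂ) (t * s) = (χ : G → ℂ) t := by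
    intro t ht ht1 htp
    obtain ⟨D, hDC₁, hDC, hDfix, -, hmem⟩ := exists_local hHp hHab hHA hcommA ht (ih t ht ht1)
    set C₁ := A ⊓ centralizer ({t} : Set G) with hC₁
    have hord : orderOf t = p := orderOf_eq_prime htp ht1
    have hcomm₁ : ∀ s ∈ C₁, Commute s t := fun s hs => mem_centralizer_singleton_iff.mp hs.2
    have hnorm : ∀ j : ZMod p, j ≠ 0 → ∑ s : C₁, (χ : G → ℂ) ((s : G) * t ^ j.val) *
        conj ((χ : G → ℂ) ((s : G) * t ^ j.val)) = (Nat.card C₁ : ℂ) := by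
      intro j hj
      have hcen : centralizer ({t ^ j.val} : Set G) = centralizer ({t} : Set G) := by
        have hcp : Nat.Coprime j.val (orderOf t) := by
          rw [hord]
          refine Nat.Coprime.symm (hp.out.coprime_iff_not_dvd.mpr fun h => ?_)
          exact (ZMod.val_ne_zero j).mpr hj (Nat.eq_zero_of_dvd_of_lt h (ZMod.val_lt j))
        obtain ⟨m, hm⟩ := exists_pow_eq_self_of_coprime hcp
        ext x
        simp only [mem_centralizer_singleton_iff]
        constructor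
        · intro h
          rw [← hm]
          exact Commute.pow_right h m
        · intro h
          exact Commute.pow_right h _
      have hpow : ∃ k : ℕ, orderOf (t ^ j.val) = p ^ k := by
        obtain ⟨k, -, hk⟩ := (Nat.dvd_prime_pow hp.out).mp
          (show orderOf (t ^ j.val) ∣ p ^ 1 from (pow_one p).symm ▸ (orderOf_pow_dvd (x := t) j.val).trans hord.dvd)
        exact ⟨k, hk⟩
      have hF : IsClassFunction G (fun g => (χ : G → ℂ) g * conj ((χ : G → ℂ) g)) :=
        fun g h => by simp only [BlocksCore.irr_class χ g h]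
      have h := card_mul_sum_coset hA hpow hF
      rw [hAnorm, hcen, ← hC₁, mul_comm] at h
      exact (mul_left_cancel₀ (CharDeep.Ext.natCard_ne A) h).symm
    obtain ⟨ν, cf, hν⟩ := exists_single htp hcomm₁ χ hnorm
    obtain ⟨hc0, hval⟩ := hν 1 one_ne_zero
    simp only [ZMod.val_one, pow_one] at hval
    have hker : ∀ d : C₁, (d : G) ∈ D → (ν : C₁ → ℂ) d = (ν : C₁ → ℂ) 1 := by
      refine kernel_of_fixfree hHp (fun h => hA (h.trans (card_dvd_of_le inf_le_left))) hDC₁
        (fun k hk d hd => hDC k hk.2 d hd)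
        (fun h hh d hd => hDC h (mem_centralizer_singleton_iff.mpr (hcommH h hh t ht)) d hd)
        hDfix ν fun h hh k k' hk => ?_
      refine mul_left_cancel₀ hc0 ?_
      rw [← hval, ← hval, hk, show h * (k : G) * h⁻¹ * t = h * ((k : G) * t) * h⁻¹ by
        rw [mul_assoc (h * (k : G)), ((show Commute h t from hcommH h hh t ht).inv_left).eq]
        group, BlocksCore.irr_class χ]
    have ht0 : (χ : G → ℂ) t = cf 1 * (ν : C₁ → ℂ) 1 := by
      rw [← hval 1, Subgroup.coe_one, one_mul]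
    refine ⟨?_, fun X K S s hs hts => ?_⟩
    · rw [ht0]; exact mul_ne_zero hc0 (BlocksCore.irr_one_ne_zero ν)
    · have hsD := hmem X K S s hs hts
      rw [hts.eq, show s * t = ((⟨s, hDC₁ hsD⟩ : C₁) : G) * t from rfl, hval,
        hker _ hsD, ht0]
  -- elements of `N(H)` centralize `H`
  have hNH : ∀ n ∈ normalizer (H : Set G), ∀ t ∈ H, n * t * n⁻¹ = t := by
    intro n hn t ht
    obtain ⟨h, hh, a, ha, rfl⟩ := hsup n
    have haN : a ∈ normalizer (H : Set G) := by
      have := mul_mem (inv_mem (le_normalizer hh)) hn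
      rwa [inv_mul_cancel_left] at this
    have hmemA : a * t * a⁻¹ * t⁻¹ ∈ A := hcommA a t
    have hmemH : a * t * a⁻¹ * t⁻¹ ∈ H :=
      mul_mem ((mem_normalizer_iff.mp haN t).mp ht) (inv_mem ht)
    have h1 : a * t * a⁻¹ = t := mul_inv_eq_one.mp (Subgroup.mem_bot.mp (hHA.le ⟨hmemH, hmemA⟩))
    rw [show h * a * t * (h * a)⁻¹ = h * (a * t * a⁻¹) * h⁻¹ by group, h1, hcommH h hh t ht,
      mul_inv_cancel_right]
  have hfC : ((charDegree (χ : G → ℂ) : ℕ) : ℂ) ≠ 0 :=
    Nat.cast_ne_zero.mpr (BlocksCore.charDegree_pos χ).ne'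
  have hsq : ∀ t ∈ H, t ≠ 1 → t ^ p = 1 →
      (χ : G → ℂ) t ^ 2 = (charDegree (χ : G → ℂ) : ℂ) * (χ : G → ℂ) (t ^ 2) := by
    intro t ht ht1 htp
    have ht2 : t ^ 2 ≠ 1 := fun h => by
      have h1 := Nat.le_of_dvd two_pos (orderOf_dvd_of_pow_eq_one h)
      rw [orderOf_eq_prime htp ht1] at h1
      have := hp.out.two_le
      omega
    have hav : ∀ g : G, (χ : G → ℂ) (g * t * g⁻¹ * t) = (χ : G → ℂ) (t ^ 2) := by
      intro g
      obtain ⟨K, n, hn, S, -, hres⟩ := exists_split hHp hHab hcl g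
      have h1 := S.res_mul (hres t ht) (res_of_mem (K := K) ht)
      rw [hNH n hn t ht, ← sq] at h1
      obtain ⟨x, -, s, hs, hws, hx⟩ := S.exists_conj_eq hHp h1
      rw [← BlocksCore.irr_class χ (g * t * g⁻¹ * t) x, hx]
      exact (hloc (t ^ 2) (pow_mem ht 2) ht2
        (by rw [← pow_mul, mul_comm, pow_mul, htp, one_pow])).2 _ K S s hs hws
    have h := BlocksCore.sum_char_conj_mul χ t t
    rw [Fintype.sum_equiv (Equiv.inv G) (fun h => (χ : G → ℂ) (h⁻¹ * t * h * t))
        (fun g => (χ : G → ℂ) (g * t * g⁻¹ * t)) (fun g => by simp),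
      Finset.sum_congr rfl fun g _ => hav g, Finset.sum_const, Finset.card_univ, nsmul_eq_mul,
      ← Nat.card_eq_fintype_card, BlocksCore.irr_one_eq, mul_assoc (Nat.card G : ℂ),
      mul_div_assoc] at h
    rw [mul_left_cancel₀ (Nat.cast_ne_zero.mpr Nat.card_pos.ne') h]
    field_simp
  -- an element of order `p`
  obtain ⟨t, ht, ht1, htp⟩ : ∃ t ∈ H, t ≠ 1 ∧ t ^ p = 1 := by
    obtain ⟨k, hk⟩ := hHp.exists_card_eq
    cases k with
    | zero =>
      exfalso
      rw [pow_zero, Subgroup.card_eq_one] at hk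
      subst hk
      rw [show ((⊥ : Subgroup G) : Set G) = {1} from Subgroup.coe_bot] at hR
      have hle : normalClosure ({1} : Set G) ≤ ⊥ := normalClosure_le_normal (by simp)
      exact hc1 (Subgroup.mem_bot.mp (hle (hR.symm ▸ Subgroup.mem_top c)))
    | succ k =>
      obtain ⟨x, hx⟩ := exists_prime_orderOf_dvd_card' (G := H) p
        (hk ▸ dvd_pow_self p k.succ_ne_zero)
      refine ⟨x, x.2, ?_, ?_⟩
      · intro h
        rw [← Subgroup.orderOf_coe, h, orderOf_one] at hx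
        exact hp.out.ne_one hx.symm
      · have h1 : x ^ p = 1 := by rw [← hx]; exact pow_orderOf_eq_one x
        simpa using congrArg Subtype.val h1
  have hpow2 : ∀ i : ℕ, t ^ (2 ^ i) ≠ 1 ∧ (t ^ (2 ^ i)) ^ p = 1 := fun i => by
    refine ⟨fun h => ?_, by rw [← pow_mul, mul_comm, pow_mul, htp, one_pow]⟩
    have h1 := orderOf_dvd_of_pow_eq_one h
    rw [orderOf_eq_prime htp ht1] at h1
    exact hp2 ((Nat.prime_dvd_prime_iff_eq hp.out Nat.prime_two).mp (hp.out.dvd_of_dvd_pow h1))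
  set f : ℝ := (charDegree (χ : G → ℂ) : ℝ) with hf
  have hf0 : 0 < f := Nat.cast_pos.mpr (BlocksCore.charDegree_pos χ)
  have hiter : ∀ i : ℕ, ‖(χ : G → ℂ) t‖ ^ (2 ^ i) * f =
      f ^ (2 ^ i) * ‖(χ : G → ℂ) (t ^ (2 ^ i))‖ := by
    intro i
    induction i with
    | zero => simp [mul_comm]
    | succ i ih =>
      have h := congrArg (‖·‖) (hsq _ (pow_mem ht _) (hpow2 i).1 (hpow2 i).2)
      simp only [norm_pow, norm_mul, Complex.norm_natCast, ← hf, ← pow_mul, ← pow_succ] at h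
      have h2 := congrArg (· ^ 2) ih
      simp only [mul_pow, ← pow_mul, ← pow_succ] at h2
      rw [h] at h2
      refine mul_right_cancel₀ hf0.ne' ?_
      rw [mul_assoc, ← sq, h2]
      ring
  have hnorm_t : ‖(χ : G → ℂ) t‖ = f := by
    have h := hiter (p - 1)
    have hfix : t ^ (2 ^ (p - 1)) = t := by
      have h2 : ((2 : ℕ) : ZMod p) ≠ 0 := fun h => hp2
        ((Nat.prime_dvd_prime_iff_eq hp.out Nat.prime_two).mp
          ((ZMod.natCast_eq_zero_iff 2 p).mp h))
      have h3 := ZMod.pow_card_sub_one_eq_one h2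
      rw [← Nat.cast_pow, ← Nat.cast_one (R := ZMod p), ZMod.natCast_eq_natCast_iff'] at h3
      rw [pow_eq_pow_mod (2 ^ (p - 1)) htp, h3, Nat.one_mod_eq_one.mpr hp.out.ne_one, pow_one]
    rw [hfix] at h
    have h0 : (0 : ℝ) < ‖(χ : G → ℂ) t‖ := norm_pos_iff.mpr (hloc t ht ht1 htp).1
    obtain ⟨k, hk⟩ : ∃ k, 2 ^ (p - 1) = k + 1 :=
      ⟨2 ^ (p - 1) - 1, (Nat.succ_pred_eq_of_pos (Nat.two_pow_pos _)).symm⟩
    have hk0 : k ≠ 0 := by
      intro hk0
      have := hp.out.two_le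
      rw [hk0, zero_add, Nat.pow_eq_one] at hk
      omega
    rw [hk, pow_succ, pow_succ, mul_assoc, mul_assoc, mul_comm (‖(χ : G → ℂ) t‖) f] at h
    exact (pow_left_inj₀ h0.le hf0.le hk0).mp
      (mul_right_cancel₀ (mul_pos hf0 h0).ne' h)
  -- the kernel
  obtain ⟨n, ρ, hρ, hρχ⟩ := χ.2
  have hfn : f = (n : ℝ) := by
    rw [hf, ← hρχ]
    simp [charDegree]
  obtain ⟨z, hz⟩ := CharClifford.exists_scalar_of_norm_character_eq ρ t (by
    rw [hρχ, hnorm_t, hfn]
    simp)
  have hker_iff : ∀ x : G, ρ x = 1 → ∀ y, (χ : G → ℂ) (x * y) = (χ : G → ℂ) y := by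
    intro x hx y
    rw [← hρχ]
    simp only [Representation.character, map_mul, hx, one_mul]
  have hρone : ∀ x : G, (χ : G → ℂ) x = (χ : G → ℂ) 1 → ρ x = 1 := by
    intro x hx
    refine CharClifford.eq_one_of_character_eq_finrank ρ x ?_
    rw [hρχ, hx, ← hρχ]
    simp
  set A₀ := A ⊓ MonoidHom.ker ρ with hA₀
  have hA₀c : ¬ p ∣ Nat.card A₀ := fun h => hA (h.trans (card_dvd_of_le inf_le_left))
  haveI : A₀.Normal := inferInstance
  obtain ⟨D, hDC₁, hDC, hDfix, hDcomm, -⟩ := exists_local hHp hHab hHA hcommA ht (ih t ht ht1)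
  set C₁ := A ⊓ centralizer ({t} : Set G) with hC₁
  have hdecomp : ∀ a ∈ A, ∃ d ∈ A₀, d * a ∈ C₁ := by
    intro a ha
    obtain ⟨d, hd, hc⟩ := exists_fixed_coset (P := zpowers t) (D := A₀) (s := a)
      (hHp.to_le (zpowers_le.mpr ht)) hA₀c
      (fun h _ d hd => (inferInstance : A₀.Normal).conj_mem d hd h) (fun h hh => by
        refine ⟨hcommA h a, MonoidHom.mem_ker.mpr ?_⟩
        obtain ⟨i, rfl⟩ := (mem_powers_iff_mem_zpowers.mpr hh : h ∈ Submonoid.powers t)
        have e : ρ (t ^ i) * ρ a = ρ a * ρ (t ^ i) := by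
          rw [map_pow, hz, smul_pow, one_pow, smul_mul_assoc, one_mul, mul_smul_comm, mul_one]
        rw [map_mul, map_mul, map_mul, e, mul_assoc (ρ a), ← map_mul, mul_inv_cancel, map_one,
          mul_one, ← map_mul, mul_inv_cancel, map_one])
    exact ⟨d, hd, mul_mem hd.1 ha, mem_centralizer_singleton_iff.mpr (hc t (mem_zpowers t)).symm⟩
  have hirr₁ : IsIrrCharacter C₁ (fun x : C₁ => (χ : G → ℂ) x) := by
    obtain ⟨ψ, hψ⟩ := BlocksDefect.exists_inflate_eq (A₀.subgroupOf A) θ (fun x hx => by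
      rw [← hres', ← hres', ← mul_one (x : G), hker_iff (x : G) hx.2, Subgroup.coe_one])
    have h := CharCore.isIrrCharacter_comp_surjective ψ.2
      ((QuotientGroup.mk' (A₀.subgroupOf A)).comp (Subgroup.inclusion (inf_le_left : C₁ ≤ A)))
      (fun x => by
        obtain ⟨⟨a, ha⟩, rfl⟩ := QuotientGroup.mk'_surjective _ x
        obtain ⟨d, hd, hda⟩ := hdecomp a ha
        refine ⟨⟨d * a, hda⟩, ?_⟩
        show QuotientGroup.mk' (A₀.subgroupOf A) ⟨d * a, _⟩ = _
        rw [show (⟨d * a, hda.1⟩ : A) = ⟨d, hd.1⟩ * ⟨a, ha⟩ from rfl, map_mul,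
          QuotientGroup.mk'_apply _ (⟨d, hd.1⟩ : A),
          (QuotientGroup.eq_one_iff (⟨d, hd.1⟩ : A)).mpr hd, one_mul])
    convert h using 1
    funext x
    rw [show (x : G) = ((Subgroup.inclusion (inf_le_left : C₁ ≤ A) x : A) : G) from rfl, hres',
      ← hψ]
    rfl
  have hDker : ∀ d ∈ D, ρ d = 1 := by
    intro d hd
    refine hρone d ?_
    have h := kernel_of_fixfree hHp (fun h => hA (h.trans (card_dvd_of_le inf_le_left))) hDC₁
      (fun k hk d hd => hDC k hk.2 d hd)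
      (fun h hh d hd => hDC h (mem_centralizer_singleton_iff.mpr (hcommH h hh t ht)) d hd)
      hDfix ⟨_, hirr₁⟩ (fun h hh k k' hk => by
        show (χ : G → ℂ) (k' : G) = (χ : G → ℂ) (k : G)
        rw [hk, BlocksCore.irr_class χ]) ⟨d, hDC₁ hd⟩ hd
    simpa using h
  have hnorm : (H ⊔ A₀).Normal := by
    refine normalizer_eq_top_iff.mp (eq_top_iff.mpr fun g _ => ?_)
    obtain ⟨h, hh, a, ha, rfl⟩ := hsup g
    refine mul_mem (le_normalizer (mem_sup_left hh)) ?_
    have key : ∀ a ∈ A, ∀ y ∈ H ⊔ A₀, a * y * a⁻¹ ∈ H ⊔ A₀ := by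
      intro a ha y hy
      obtain ⟨u, hu, v, hv, rfl⟩ := mem_sup_of_normal_right.mp hy
      have e : a * (u * v) * a⁻¹ = (a * u * a⁻¹ * u⁻¹) * u * (a * v * a⁻¹) := by group
      rw [e]
      refine mul_mem (mul_mem (mem_sup_right ⟨hcommA a u, MonoidHom.mem_ker.mpr ?_⟩)
        (mem_sup_left hu)) (mem_sup_right ((inferInstance : A₀.Normal).conj_mem v hv a))
      obtain ⟨d, hd, hda⟩ := hdecomp a ha
      have h1 : ρ (u * (d * a) * u⁻¹ * (d * a)⁻¹) = 1 := hDker _ (hDcomm u hu _ hda.2)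
      have hρd : ρ d = 1 := hd.2
      have hρd' : ρ d⁻¹ = 1 := by
        have := MonoidHom.mem_ker.mp (inv_mem (MonoidHom.mem_ker.mpr hρd : d ∈ MonoidHom.ker ρ))
        exact this
      have h2 : ρ (u * a * u⁻¹ * a⁻¹) = 1 := by
        simp only [map_mul, mul_inv_rev, hρd, hρd', one_mul, mul_one, ← mul_assoc] at h1 ⊢
        exact h1
      rw [show a * u * a⁻¹ * u⁻¹ = (u * a * u⁻¹ * a⁻¹)⁻¹ by group]
      exact MonoidHom.mem_ker.mp (inv_mem (MonoidHom.mem_ker.mpr h2 :
        u * a * u⁻¹ * a⁻¹ ∈ MonoidHom.ker ρ))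
    exact le_normalizer_iff.mpr key ha
  have htop : H ⊔ A₀ = ⊤ :=
    top_le_iff.mp (hR ▸ normalClosure_le_normal fun x hx => mem_sup_left hx)
  have hAker : ∀ a : A, (θ : A → ℂ) a = (θ : A → ℂ) 1 := by
    intro a
    obtain ⟨u, hu, v, hv, huv⟩ := mem_sup_of_normal_right.mp
      (htop.symm ▸ Subgroup.mem_top (a : G) : (a : G) ∈ H ⊔ A₀)
    have hu1 : u = 1 := Subgroup.mem_bot.mp (hHA.le ⟨hu, by
      have := mul_mem a.2 (inv_mem hv.1)
      rwa [← huv, mul_inv_cancel_right] at this⟩)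
    rw [hu1, one_mul] at huv
    rw [← hres', ← hres', ← huv, ← mul_one v, hker_iff _ hv.2, Subgroup.coe_one]
  have h0 := CharCore.classInner_irr_of_ne hθ1
  rw [CharCore.classInner_def] at h0
  simp only [BlocksDefect.coe_oneIrr, hAker, map_one, mul_one, Finset.sum_const,
    Finset.card_univ, nsmul_eq_mul, ← Nat.card_eq_fintype_card, ← mul_assoc] at h0
  rw [inv_mul_cancel₀ (CharDeep.Ext.natCard_ne A), one_mul] at h0
  exact BlocksCore.irr_one_ne_zero θ h0

universe u

/-- The normal closure meets the normalizer in `H`. -/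
theorem normalClosure_inf_normalizer (hp2 : p ≠ 2) : ∀ (n : ℕ) {G : Type u} [Group G] [Finite G],
    Nat.card G = n → ∀ {H : Subgroup G}, IsPGroup p H → IsMulCommutative H →
      IsExtremelyClosed H → normalClosure (H : Set G) ⊓ normalizer (H : Set G) = H := by
  intro n
  induction n using Nat.strong_induction_on with
  | _ n ih =>
  intro G _ _ hcard H hHp hHab hcl
  set N := normalizer (H : Set G) with hN
  have hge : H ≤ normalClosure (H : Set G) ⊓ N := le_inf Subgroup.le_normalClosure le_normalizer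
  refine le_antisymm ?_ hge
  set R := normalClosure (H : Set G) with hR
  by_cases hRtop : R = ⊤
  swap
  · have hHR : H ≤ R := Subgroup.le_normalClosure
    have h := ih (Nat.card R) (hcard ▸ lt_of_le_of_ne (card_le_card_group R)
      (fun e => hRtop (card_eq_iff_eq_top R |>.mp e))) rfl (isPGroup_subgroupOf hHp R)
      (comm_subgroupOf hHab R) (subgroupOf hcl hHR)
    have htop : R ≤ (normalClosure ((H.subgroupOf R : Subgroup R) : Set R)).map R.subtype := by
      refine (closure_le _).mpr fun x hx => ?_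
      obtain ⟨y, hy, hyx⟩ := Group.mem_conjugatesOfSet_iff.mp hx
      obtain ⟨g, rfl⟩ := isConj_iff.mp hyx
      obtain ⟨k, hk, m, hm, rfl⟩ := exists_normalClosure_mul hHp hHab hcl g
      have hy' := (mem_normalizer_iff.mp hm y).mp hy
      refine ⟨⟨k, hk⟩ * ⟨m * y * m⁻¹, hHR hy'⟩ * ⟨k, hk⟩⁻¹,
        normalClosure_normal.conj_mem _ (Subgroup.subset_normalClosure
          (s := ((H.subgroupOf R : Subgroup R) : Set R)) hy') _, ?_⟩
      show k * (m * y * m⁻¹) * k⁻¹ = k * m * y * (k * m)⁻¹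
      group
    rintro x ⟨hxR, hxN⟩
    obtain ⟨y, hy, hyx⟩ := htop hxR
    have hy2 : y ∈ normalizer ((H.subgroupOf R : Subgroup R) : Set R) := by
      rw [← subgroupOf_normalizer_eq hHR, mem_subgroupOf]
      show R.subtype y ∈ N
      rw [hyx]; exact hxN
    have := h.le ⟨hy, hy2⟩
    rw [← hyx]
    exact this
  by_cases hZ : H ⊓ Subgroup.center G = ⊥
  swap
  · set Z := H ⊓ Subgroup.center G with hZdef
    have hZc : Z ≤ Subgroup.center G := inf_le_right
    haveI : Z.Normal := ⟨fun x hx g => by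
      rwa [Subgroup.mem_center_iff.mp (hZc hx) g, mul_inv_cancel_right]⟩
    set f := QuotientGroup.mk' Z with hf
    have hker : f.ker ≤ H := by rw [hf, QuotientGroup.ker_mk']; exact inf_le_left
    have hlt : Nat.card (G ⧸ Z) < n := by
      rw [← hcard, Z.card_eq_card_quotient_mul_card_subgroup]
      exact (Nat.lt_mul_iff_one_lt_right Nat.card_pos).mpr
        (Z.one_lt_card_iff_ne_bot.mpr hZ)
    have h := ih _ hlt rfl (hHp.map f) (comm_map hHab f)
      (map_of_ker_le hcl f (QuotientGroup.mk'_surjective Z) hker)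
    rintro x ⟨hxR, hxN⟩
    have hx1 : f x ∈ normalClosure ((H.map f : Subgroup (G ⧸ Z)) : Set (G ⧸ Z)) := by
      rw [coe_map, ← map_normalClosure (H : Set G) f (QuotientGroup.mk'_surjective Z)]
      exact mem_map_of_mem f hxR
    have hx2 : f x ∈ normalizer ((H.map f : Subgroup (G ⧸ Z)) : Set (G ⧸ Z)) := by
      rw [← mem_comap, comap_normalizer_map f (QuotientGroup.mk'_surjective Z) hker]
      exact hxN
    rw [← comap_map_eq_self hker]
    exact h.le ⟨hx1, hx2⟩
  letI := Fintype.ofFinite G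
  set A := pPrimeCore p G with hA
  have hone := normalizer_sup_pPrimeCore hp2 n hcard hHp hHab hcl
  have hnorm : (H ⊔ A).Normal := by
    refine normalizer_eq_top_iff.mp (top_le_iff.mp (hone ▸ sup_le ?_ ?_))
    · refine le_normalizer_iff.mpr fun m hm x hx => ?_
      obtain ⟨u, hu, v, hv, rfl⟩ := mem_sup_of_normal_right.mp hx
      rw [show m * (u * v) * m⁻¹ = (m * u * m⁻¹) * (m * v * m⁻¹) by group]
      exact mul_mem (mem_sup_left ((mem_normalizer_iff.mp hm u).mp hu))
        (mem_sup_right ((inferInstance : (pPrimeCore p G).Normal).conj_mem v hv m))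
    · exact le_sup_right.trans le_normalizer
  have hsup : ∀ g : G, ∃ h ∈ H, ∃ a ∈ A, g = h * a := by
    intro g
    have hg : g ∈ H ⊔ A := (hR ▸ normalClosure_le_normal fun x hx => mem_sup_left hx :
      R ≤ H ⊔ A) (hRtop ▸ Subgroup.mem_top g)
    obtain ⟨u, hu, v, hv, rfl⟩ := mem_sup_of_normal_right.mp hg
    exact ⟨u, hu, v, hv, rfl⟩
  rintro x ⟨-, hxN⟩
  obtain ⟨u, hu, v, hv, rfl⟩ := hsup x
  have hvN : v ∈ N := by
    have := mul_mem (inv_mem (le_normalizer hu)) hxN
    rwa [inv_mul_cancel_left] at this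
  have hHA : H ⊓ A = ⊥ := Thompson.inf_eq_bot_of_isPGroup_of_coprime hHp
    Thompson.card_pPrimeCore_coprime
  have hvH : ∀ h ∈ H, h * v = v * h := by
    intro h hh
    have h1 : v * h * v⁻¹ * h⁻¹ ∈ H ⊓ A := by
      refine ⟨(mul_mem ((mem_normalizer_iff.mp hvN h).mp hh) (inv_mem hh) : _ ∈ H), ?_⟩
      rw [show v * h * v⁻¹ * h⁻¹ = v * (h * v⁻¹ * h⁻¹) by group]
      exact mul_mem hv
        ((inferInstance : (pPrimeCore p G).Normal).conj_mem _ (inv_mem hv) h)
    rw [hHA, Subgroup.mem_bot, mul_inv_eq_one, mul_inv_eq_iff_eq_mul] at h1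
    exact h1.symm
  have hv1 : v = 1 := by
    refine no_fixed_points hp2 hHp hHab hcl Thompson.not_dvd_card_pPrimeCore hsup hRtop hZ
      (fun w hw hw1 => ?_) hv hvH
    set C := centralizer ({w} : Set G) with hC
    have hHC : H ≤ C := fun a ha => mem_centralizer_singleton_iff.mpr
      (congrArg Subtype.val (hHab.is_comm.comm (⟨a, ha⟩ : H) ⟨w, hw⟩))
    have hClt : C ≠ ⊤ := fun e => hw1 (by
      have : w ∈ H ⊓ Subgroup.center G := ⟨hw, Subgroup.mem_center_iff.mpr fun g => by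
        have hg : g ∈ C := e ▸ Subgroup.mem_top g
        exact mem_centralizer_singleton_iff.mp hg⟩
      rwa [hZ, Subgroup.mem_bot] at this)
    exact ih (Nat.card C) (hcard ▸ lt_of_le_of_ne (card_le_card_group C)
      (fun e => hClt (card_eq_iff_eq_top C |>.mp e))) rfl (isPGroup_subgroupOf hHp C)
      (comm_subgroupOf hHab C) (subgroupOf hcl hHC)
  rw [hv1, mul_one]
  exact hu

end Cfsg.Agent.ExtClosed29
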