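import Cfsg.Agent.ExtClosed29.Bound
import Cfsg.Agent.Lib.BlocksDefect.PrincipalSection
import Cfsg.Agent.Lib.BlocksDefect.Pairing
import Cfsg.Agent.Lib.BlocksCore.SecondMain

/-!
# Counting in the principal block
-/

set_option autoImplicit false
set_option linter.unusedSectionVars false

namespace Cfsg.Agent.ExtClosed29

open Cfsg Subgroup
open scoped ComplexConjugate Classical

variable {G : Type*} [Group G] [Fintype G] {p : ℕ} [hp : Fact p.Prime] {M : Ideal AlgInt}
  {H : Subgroup G}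

variable (M G) in
/-- The principal block as a finite set. -/
noncomputable def blk : Finset (IrrCharacter G) :=
  Finset.univ.filter fun χ => χ ∈ principalBlock M G

variable (M) in
/-- The pairing of two elements on the principal block. -/
noncomputable def phi (x v : G) : ℂ :=
  ∑ χ ∈ blk G M, (χ : G → ℂ) x * conj ((χ : G → ℂ) v)

theorem mem_blk {χ : IrrCharacter G} : χ ∈ blk G M ↔ χ ∈ principalBlock M G := by
  simp [blk]

theorem sum_blk (F : IrrCharacter G → ℂ) :
    ∑ χ ∈ blk G M, F χ = ∑ χ, (principalBlock M G).indicator F χ := by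
  rw [blk, Finset.sum_filter]
  exact Finset.sum_congr rfl fun χ _ => by rw [Set.indicator_apply]

theorem sum_blk_finsum (F : IrrCharacter G → ℂ) :
    ∑ χ ∈ blk G M, F χ = ∑ᶠ χ ∈ principalBlock M G, F χ := by
  rw [sum_blk, finsum_mem_def, finsum_eq_sum_of_fintype]

theorem conj_phi (x v : G) : conj (phi M x v) = phi M v x := by
  simp only [phi, map_sum, map_mul, Complex.conj_conj]
  exact Finset.sum_congr rfl fun χ _ => mul_comm _ _

theorem phi_conj_left (x v c : G) : phi M (c * x * c⁻¹) v = phi M x v :=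
  Finset.sum_congr rfl fun χ _ => by rw [BlocksCore.irr_class χ]

theorem phi_conj_right (x v c : G) : phi M x (c * v * c⁻¹) = phi M x v :=
  Finset.sum_congr rfl fun χ _ => by rw [BlocksCore.irr_class χ]

theorem dvd_orderOf_of_mem (hHp : IsPGroup p H) {w : G} (hw : w ∈ H) (h1 : w ≠ 1) :
    p ∣ orderOf w := by
  obtain ⟨k, hk⟩ := IsPGroup.iff_orderOf.mp hHp ⟨w, hw⟩
  rw [Subgroup.orderOf_mk] at hk
  cases k with
  | zero => exact absurd (orderOf_eq_one_iff.mp (by rw [hk, pow_zero])) h1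
  | succ k => rw [hk]; exact dvd_pow_self p k.succ_ne_zero

theorem phi_regular (hM : IsPModular p M) {x v : G} (hx : ¬ p ∣ orderOf x) (hv : p ∣ orderOf v) :
    phi M x v = 0 := by
  rw [phi, sum_blk_finsum]
  exact BlocksCore.weakOrth hM BlocksDefect.isPBlock_principal hx hv

theorem phi_singular (hM : IsPModular p M) {x v : G} (hx : p ∣ orderOf x) (hv : ¬ p ∣ orderOf v) :
    phi M x v = 0 := by
  rw [← conj_phi, phi_regular hM hv hx, map_zero]

theorem phi_one_left (hM : IsPModular p M) (hHp : IsPGroup p H) {v : G} (hv : v ∈ H) (h1 : v ≠ 1) :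
    phi M 1 v = 0 :=
  phi_regular hM (by rw [orderOf_one]; exact hp.out.not_dvd_one) (dvd_orderOf_of_mem hHp hv h1)

theorem phi_one_right (hM : IsPModular p M) (hHp : IsPGroup p H) {w : G} (hw : w ∈ H) (h1 : w ≠ 1) :
    phi M w 1 = 0 := by
  rw [← conj_phi, phi_one_left hM hHp hw h1, map_zero]

theorem phi_not_isConj (hM : IsPModular p M) (hHp : IsPGroup p H) {w v : G} (hw : w ∈ H)
    (hv : v ∈ H) (h : ¬ IsConj w v) : phi M w v = 0 := by
  have hpp : ∀ x ∈ H, IsPPart p x x := fun x hx => by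
    obtain ⟨k, hk⟩ := IsPGroup.iff_orderOf.mp hHp ⟨x, hx⟩
    rw [Subgroup.orderOf_mk] at hk
    exact ⟨1, mul_one x, Commute.one_right x, ⟨k, hk⟩, by
      rw [orderOf_one]; exact hp.out.not_dvd_one⟩
  have := BlocksCore.blockOrth_sections hM (BlocksDefect.isPBlock_principal (G := G) (M := M))
    (hpp w hw) (hpp v hv) h
  rw [← sum_blk_finsum] at this
  rw [phi, ← this]
  exact Finset.sum_congr rfl fun χ _ => by rw [BlocksCore.conj_irr]

/-- The diagonal values are natural numbers with a large `p`-part. -/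
theorem exists_phi_self (hM : IsPModular p M) (hHp : IsPGroup p H) {v : G} (hv : v ∈ H) :
    ∃ n : ℕ, n ≠ 0 ∧ phi M v v = (n : ℂ) ∧
      (Nat.card (centralizer ({v} : Set G))).factorization p ≤ n.factorization p := by
  have := BlocksCore.isPrime hM
  obtain ⟨k, hk⟩ := IsPGroup.iff_orderOf.mp hHp ⟨v, hv⟩
  rw [Subgroup.orderOf_mk] at hk
  set C := centralizer ({v} : Set G) with hC
  set b := principalBlock M C with hb
  refine ⟨∑ η ∈ blk C M, charDegree (η : C → ℂ) ^ 2, ?_, ?_, ?_⟩
  · refine (Finset.sum_pos' (fun _ _ => Nat.zero_le _) ⟨BlocksDefect.oneIrr C,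
      mem_blk.mpr BlocksDefect.oneIrr_mem, ?_⟩).ne'
    exact pow_pos (BlocksCore.charDegree_pos _) 2
  · have h := BlocksDefect.sum_principal_section_norm hM hk (1 : C)
      (by rw [orderOf_one]; exact hp.out.not_dvd_one)
    rw [← sum_blk, ← sum_blk] at h
    push_cast
    refine Eq.trans ?_ (h.trans ?_)
    · exact Finset.sum_congr rfl fun χ _ => by
        rw [OneMemClass.coe_one, mul_one, BlocksCore.conj_irr]
    · exact Finset.sum_congr rfl fun η _ => by rw [inv_one, BlocksCore.irr_one_eq, sq]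
  · refine (BlocksDefect.factorization_of_mul_eq hM (n := ∑ η ∈ blk C M, charDegree (η : C → ℂ) ^ 2)
      (m := Nat.card C) ?_ Nat.card_pos.ne' (x := 1) (y := blockCoeff b 1)
      (BlocksCore.localRing M).one_mem BlocksCore.not_memLocalIdeal_one
      ((BlocksCore.isIntClassFun_blockCoeff hM BlocksDefect.isPBlock_principal).2 _) ?_).1
    · refine (Finset.sum_pos' (fun _ _ => Nat.zero_le _) ⟨BlocksDefect.oneIrr C,
        mem_blk.mpr BlocksDefect.oneIrr_mem, ?_⟩).ne'
      exact pow_pos (BlocksCore.charDegree_pos _) 2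
    · rw [mul_one, blockCoeff, ← sum_blk_finsum, ← mul_assoc,
        mul_inv_cancel₀ (Nat.cast_ne_zero.mpr Nat.card_pos.ne'), one_mul]
      push_cast
      exact Finset.sum_congr rfl fun η _ => by
        rw [BlocksCore.conj_irr, inv_one, BlocksCore.irr_one_eq, sq]

variable (M) in
/-- The part of the second moment coming from nontrivial elements. -/
noncomputable def energy (H : Subgroup G) : ℝ :=
  ∑ χ ∈ blk G M, hSum H (χ : G → ℂ) ^ 2 - ∑ χ ∈ blk G M, (charDegree (χ : G → ℂ) : ℝ) ^ 2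

theorem sum_phi_one (hM : IsPModular p M) (hHp : IsPGroup p H) :
    ∑ v : H, phi M (1 : G) v = phi M (1 : G) 1 := by
  rw [Finset.sum_eq_single (1 : H) (fun v _ hv => phi_one_left hM hHp v.2 fun h => hv (Subtype.ext h))
    fun h => absurd (Finset.mem_univ _) h, OneMemClass.coe_one]

theorem sum_deg_mul_hSum (hM : IsPModular p M) (hHp : IsPGroup p H) :
    ∑ χ ∈ blk G M, (charDegree (χ : G → ℂ) : ℝ) * hSum H (χ : G → ℂ) =
      ∑ χ ∈ blk G M, (charDegree (χ : G → ℂ) : ℝ) ^ 2 := by
  refine Complex.ofReal_injective ?_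
  have h := sum_phi_one (M := M) hM hHp
  simp only [phi, BlocksCore.irr_one_eq, Complex.conj_natCast] at h
  push_cast
  rw [Finset.sum_comm] at h
  refine Eq.trans (Finset.sum_congr rfl fun χ _ => ?_) (h.trans ?_)
  · rw [← Finset.mul_sum, ← map_sum, ← ofReal_hSum, Complex.conj_ofReal]
  · exact Finset.sum_congr rfl fun χ _ => (sq _).symm

theorem ofReal_energy (hM : IsPModular p M) (hHp : IsPGroup p H) :
    (energy M H : ℂ) = ∑ v ∈ (Finset.univ : Finset H).erase 1,
      ∑ w ∈ (Finset.univ : Finset H).erase 1, phi M (w : G) v := by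
  have hS : ∑ v : H, ∑ w : H, phi M (w : G) v =
      ((∑ χ ∈ blk G M, hSum H (χ : G → ℂ) ^ 2 : ℝ) : ℂ) := by
    simp only [phi]
    push_cast
    rw [Finset.sum_congr rfl fun v _ => Finset.sum_comm, Finset.sum_comm]
    refine Finset.sum_congr rfl fun χ _ => ?_
    rw [sq]
    conv_rhs => arg 2; rw [← Complex.conj_ofReal, ofReal_hSum, map_sum]
    rw [ofReal_hSum, Finset.mul_sum]
    exact Finset.sum_congr rfl fun v _ => (Finset.sum_mul ..).symm
  have h1 : phi M (1 : G) 1 = ((∑ χ ∈ blk G M, (charDegree (χ : G → ℂ) : ℝ) ^ 2 : ℝ) : ℂ) := by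
    push_cast
    exact Finset.sum_congr rfl fun χ _ => by
      rw [BlocksCore.irr_one_eq, Complex.conj_natCast, sq]
  have hw : ∀ v ∈ (Finset.univ : Finset H).erase 1, ∑ w : H, phi M (w : G) v =
      ∑ w ∈ (Finset.univ : Finset H).erase 1, phi M (w : G) v := fun v hv =>
    (Finset.sum_erase _ (by
      rw [OneMemClass.coe_one]
      exact phi_one_left hM hHp v.2 fun h => (Finset.mem_erase.mp hv).1 (Subtype.ext h))).symm
  have h2 : ∑ w : H, phi M (w : G) (1 : H) = phi M (1 : G) 1 := by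
    rw [Finset.sum_eq_single (1 : H) (fun v _ hv => by
      rw [OneMemClass.coe_one]
      exact phi_one_right hM hHp v.2 fun h => hv (Subtype.ext h))
      fun h => absurd (Finset.mem_univ _) h, OneMemClass.coe_one]
  rw [energy, Complex.ofReal_sub, ← hS, ← h1,
    ← Finset.add_sum_erase _ _ (Finset.mem_univ (1 : H)), h2, add_sub_cancel_left]
  exact Finset.sum_congr rfl hw

/-- Constancy of the principal block on the sections of elements of `H`. -/
def Const (p : ℕ) (M : Ideal AlgInt) (H : Subgroup G) : Prop :=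
  ∀ (X K : Subgroup G), Split p H X K → ∀ w ∈ H, w ≠ 1 → ∀ s ∈ K, Commute w s →
    ∀ χ : IrrCharacter G, χ ∈ principalBlock M G → (χ : G → ℂ) (w * s) = (χ : G → ℂ) w

theorem phi_res (hM : IsPModular p M) (hHp : IsPGroup p H) (hc : Const p M H) {X K : Subgroup G}
    (S : Split p H X K) {x w v : G} (hx : Res H K x w) (hv : v ∈ H) (hv1 : v ≠ 1) :
    phi M x v = phi M w v := by
  obtain ⟨c, -, s, hs, hws, hcx⟩ := S.exists_conj_eq hHp hx
  rw [← phi_conj_left x v c, hcx]
  by_cases hw : w = 1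
  · subst hw
    rw [one_mul, phi_one_left hM hHp hv hv1]
    exact phi_regular hM (fun h => S.cop (h.trans (orderOf_dvd_natCard K hs)))
      (dvd_orderOf_of_mem hHp hv hv1)
  · exact Finset.sum_congr rfl fun χ hχ => by rw [hc X K S w hx.1 hw s hs hws χ (mem_blk.mp hχ)]

theorem sum_gSum_mul (hM : IsPModular p M) (hHp : IsPGroup p H) (hHab : IsMulCommutative H)
    (hcl : IsExtremelyClosed H) (hc : Const p M H) (g : G) :
    ∑ χ ∈ blk G M, gSum H g (χ : G → ℂ) * (hSum H (χ : G → ℂ) : ℂ) =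
      ∑ χ ∈ blk G M, gSum H g (χ : G → ℂ) * (charDegree (χ : G → ℂ) : ℂ) +
        (Nat.card H : ℂ) * (energy M H : ℂ) := by
  obtain ⟨K, n, hn, S, -, hres⟩ := exists_split hHp hHab hcl g
  have hS : ∀ χ : IrrCharacter G, (hSum H (χ : G → ℂ) : ℂ) = (charDegree (χ : G → ℂ) : ℂ) +
      ∑ v ∈ (Finset.univ : Finset H).erase 1, conj ((χ : G → ℂ) v) := fun χ => by
    rw [← Complex.conj_ofReal, ofReal_hSum, map_sum,
      ← Finset.add_sum_erase _ _ (Finset.mem_univ (1 : H)), OneMemClass.coe_one,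
      BlocksCore.irr_one_eq, Complex.conj_natCast]
  simp only [hS, mul_add, Finset.sum_add_distrib]
  congr 1
  rw [ofReal_energy hM hHp, Finset.mul_sum]
  simp only [Finset.mul_sum]
  rw [Finset.sum_comm]
  refine Finset.sum_congr rfl fun v hv => ?_
  have hv1 : (v : G) ≠ 1 := fun h => (Finset.mem_erase.mp hv).1 (Subtype.ext h)
  have e : ∑ χ ∈ blk G M, gSum H g (χ : G → ℂ) * conj ((χ : G → ℂ) v) =
      ∑ a : H, ∑ b : H, phi M ((a : G) * (g * b * g⁻¹)) v := by
    simp only [gSum, phi, Finset.sum_mul]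
    rw [Finset.sum_comm]
    exact Finset.sum_congr rfl fun a _ => Finset.sum_comm
  let σ : H ≃ H :=
    { toFun := fun b => ⟨n * b * n⁻¹, (mem_normalizer_iff.mp hn b).mp b.2⟩
      invFun := fun b => ⟨n⁻¹ * b * n⁻¹⁻¹, (mem_normalizer_iff.mp (inv_mem hn) b).mp b.2⟩
      left_inv := fun b => Subtype.ext (show n⁻¹ * (n * b * n⁻¹) * n⁻¹⁻¹ = (b : G) by group)
      right_inv := fun b => Subtype.ext (show n * (n⁻¹ * b * n⁻¹⁻¹) * n⁻¹ = (b : G) by group) }
  rw [e]
  refine (Finset.sum_congr rfl (g := fun _ : H => ∑ w : H, phi M (w : G) v) fun a _ => ?_).trans ?_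
  · refine Fintype.sum_equiv (σ.trans (Equiv.mulLeft a)) _ _ fun b => ?_
    exact phi_res hM hHp hc S (S.res_mul (res_of_mem a.2) (hres b b.2)) v.2 hv1
  · rw [← Finset.sum_erase (s := (Finset.univ : Finset H))
      (f := fun w : H => phi M (w : G) v) (a := 1)
      (by rw [OneMemClass.coe_one]; exact phi_one_left hM hHp v.2 hv1)]
    simp [Finset.mul_sum, Nat.card_eq_fintype_card]

/-- The third moment. -/
theorem sum_hSum_cube (hM : IsPModular p M) (hHp : IsPGroup p H) (hHab : IsMulCommutative H)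
    (hcl : IsExtremelyClosed H) (hc : Const p M H) :
    ∑ χ ∈ blk G M, hSum H (χ : G → ℂ) ^ 3 / (charDegree (χ : G → ℂ) : ℝ) =
      ∑ χ ∈ blk G M, hSum H (χ : G → ℂ) ^ 2 + Nat.card H * energy M H := by
  have h := Finset.sum_congr (s₁ := (Finset.univ : Finset G)) rfl
    fun g _ => sum_gSum_mul hM hHp hHab hcl hc g
  have e1 : ∀ c : IrrCharacter G → ℂ,
      ∑ g : G, ∑ χ ∈ blk G M, gSum H g (χ : G → ℂ) * c χ = ∑ χ ∈ blk G M,
        (Nat.card G : ℂ) * (hSum H (χ : G → ℂ) : ℂ) ^ 2 / (charDegree (χ : G → ℂ) : ℂ) * c χ := by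
    intro c
    rw [Finset.sum_comm]
    exact Finset.sum_congr rfl fun χ _ => by
      rw [← Finset.sum_mul, sum_gSum, BlocksCore.irr_one_eq]
  rw [Finset.sum_add_distrib, e1, e1, Finset.sum_const, Finset.card_univ, nsmul_eq_mul,
    ← Nat.card_eq_fintype_card] at h
  have hf : ∀ χ : IrrCharacter G, (charDegree (χ : G → ℂ) : ℂ) ≠ 0 := fun χ =>
    Nat.cast_ne_zero.mpr (BlocksCore.charDegree_pos χ).ne'
  have hG : (Nat.card G : ℂ) ≠ 0 := Nat.cast_ne_zero.mpr Nat.card_pos.ne'
  refine Complex.ofReal_injective (mul_left_cancel₀ hG ?_)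
  push_cast
  rw [mul_add, Finset.mul_sum, Finset.mul_sum]
  refine Eq.trans (Finset.sum_congr rfl fun χ _ => ?_) (h.trans (congrArg₂ (· + ·)
    (Finset.sum_congr rfl fun χ _ => ?_) rfl))
  · ring
  · field_simp [hf χ]

/-- The inequality between the energy and the principal term. -/
theorem energy_lt (hM : IsPModular p M) (hp2 : p ≠ 2) (hHp : IsPGroup p H)
    (hHab : IsMulCommutative H) (hcl : IsExtremelyClosed H) (hc : Const p M H)
    (hR : normalClosure (H : Set G) = ⊤) (hne : H ≠ ⊥) :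
    energy M H * ((Nat.card H : ℝ) * ((p : ℝ) - 2) - ((p : ℝ) - 1)) <
      (Nat.card H : ℝ) * ((Nat.card H : ℝ) - 1) ^ 2 * ((p : ℝ) - 2) := by
  have := BlocksCore.isPrime hM
  set q : ℝ := (Nat.card H : ℝ) with hqdef
  have hp3 : (3 : ℝ) ≤ p := by
    have h2 := hp.out.two_le
    exact_mod_cast (show 3 ≤ p by omega)
  have hqp : (p : ℝ) ≤ q := by
    obtain ⟨n, hn⟩ := hHp.exists_card_eq
    cases n with
    | zero => exact absurd (Subgroup.card_eq_one.mp (by rw [hn, pow_zero])) hne
    | succ n =>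
      rw [hqdef, hn]
      exact_mod_cast Nat.le_self_pow n.succ_ne_zero p
  let f : IrrCharacter G → ℝ := fun χ => (charDegree (χ : G → ℂ) : ℝ)
  let s : IrrCharacter G → ℝ := fun χ => hSum H (χ : G → ℂ)
  have hf : ∀ χ, 0 < f χ := fun χ => by
    have := BlocksCore.charDegree_pos χ
    exact Nat.cast_pos.mpr this
  set t : IrrCharacter G → ℝ := fun χ =>
    (s χ - f χ) ^ 2 * (((p : ℝ) - 1) * s χ - q * f χ) / f χ with ht
  have htot : ∑ χ ∈ blk G M, t χ = energy M H * (q * ((p : ℝ) - 2) - ((p : ℝ) - 1)) := by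
    have e : ∀ χ, t χ = ((p : ℝ) - 1) * (s χ ^ 3 / f χ) - (2 * ((p : ℝ) - 1) + q) * s χ ^ 2 +
        ((p : ℝ) - 1 + 2 * q) * (f χ * s χ) - q * f χ ^ 2 := fun χ => by
      have := (hf χ).ne'
      simp only [ht]
      field_simp
      ring
    rw [Finset.sum_congr rfl fun χ _ => e χ, Finset.sum_sub_distrib, Finset.sum_add_distrib,
      Finset.sum_sub_distrib, ← Finset.mul_sum, ← Finset.mul_sum, ← Finset.mul_sum,
      ← Finset.mul_sum, sum_hSum_cube hM hHp hHab hcl hc, sum_deg_mul_hSum hM hHp, energy]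
    simp only [f, s, hqdef]
    ring
  set o := BlocksDefect.oneIrr G with ho
  have hom : o ∈ blk G M := mem_blk.mpr BlocksDefect.oneIrr_mem
  have hof : f o = 1 := by
    simp [f, ho, BlocksDefect.coe_oneIrr, charDegree]
  have hos : s o = q := by
    simp [s, hSum, ho, BlocksDefect.coe_oneIrr, hqdef, Nat.card_eq_fintype_card]
  have hto : t o = q * (q - 1) ^ 2 * ((p : ℝ) - 2) := by
    simp only [ht, hof, hos]
    ring
  have hle : ∀ χ ∈ (blk G M).erase o, ((p : ℝ) - 1) * s χ ≤ q * f χ := fun χ hχ => by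
    rcases hSum_bound hHp hHab hcl χ with heq | h
    · exfalso
      obtain ⟨m, ρ, hρ, hker⟩ := CharCore.IsCharacter.exists_kernel (CharCore.irr_isCharacter χ)
      have hall : ∀ x, (χ : G → ℂ) x = (χ : G → ℂ) 1 := fun x => by
        refine (hker x).mpr ?_
        have hle' : normalClosure (H : Set G) ≤ MonoidHom.ker ρ :=
          normalClosure_le_normal fun a ha => (hker a).mp (apply_eq_of_hSum_eq χ heq a ha)
        rw [hR] at hle'
        exact hle' (Subgroup.mem_top x)
      have h0 := CharCore.classInner_irr_of_ne (Finset.mem_erase.mp hχ).1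
      rw [CharCore.classInner_def] at h0
      simp only [ho, BlocksDefect.coe_oneIrr, hall, map_one, mul_one, Finset.sum_const,
        Finset.card_univ, nsmul_eq_mul, ← Nat.card_eq_fintype_card, ← mul_assoc] at h0
      rw [inv_mul_cancel₀ (Nat.cast_ne_zero.mpr Nat.card_pos.ne'), one_mul] at h0
      exact BlocksCore.irr_one_ne_zero χ h0
    · exact h
  have hneg : ∑ χ ∈ (blk G M).erase o, t χ < 0 := by
    obtain ⟨χ, hχ, hlt⟩ : ∃ χ ∈ (blk G M).erase o, s χ < f χ := by
      by_contra hcon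
      push Not at hcon
      have h0 : ∑ χ ∈ blk G M, f χ * (s χ - f χ) = 0 := by
        simp only [mul_sub, Finset.sum_sub_distrib, ← sq]
        rw [sum_deg_mul_hSum hM hHp, sub_self]
      rw [← Finset.add_sum_erase _ _ hom, hof, hos, one_mul] at h0
      have : 0 ≤ ∑ χ ∈ (blk G M).erase o, f χ * (s χ - f χ) :=
        Finset.sum_nonneg fun χ hχ => mul_nonneg (hf χ).le (sub_nonneg.mpr (hcon χ hχ))
      linarith
    have hnonpos : ∀ ψ ∈ (blk G M).erase o, t ψ ≤ 0 := fun ψ hψ =>
      div_nonpos_of_nonpos_of_nonneg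
        (mul_nonpos_of_nonneg_of_nonpos (sq_nonneg _) (sub_nonpos.mpr (hle ψ hψ))) (hf ψ).le
    refine (Finset.sum_lt_sum hnonpos ⟨χ, hχ, ?_⟩).trans_le (le_of_eq Finset.sum_const_zero)
    refine div_neg_of_neg_of_pos (mul_neg_of_pos_of_neg ?_ ?_) (hf χ)
    · exact pow_two_pos_of_ne_zero (sub_ne_zero.mpr hlt.ne)
    · have h1 : ((p : ℝ) - 1) * s χ < ((p : ℝ) - 1) * f χ :=
        mul_lt_mul_of_pos_left hlt (by linarith)
      have h2 : ((p : ℝ) - 1) * f χ ≤ q * f χ :=
        mul_le_mul_of_nonneg_right (by linarith) (hf χ).le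
      linarith
  rw [← htot, ← Finset.add_sum_erase _ _ hom, hto]
  linarith

/-- The orbit of `v` under `N(H)`, times the size of the stabilizer, is the order of `N(H)`. -/
theorem card_orbit_mul (N : Subgroup G) (v : G) :
    ((Finset.univ : Finset N).image fun n : N => (n : G) * v * (n : G)⁻¹).card *
      Nat.card ↥((centralizer ({v} : Set G)).subgroupOf N) = Nat.card N := by
  set f : N → G := fun n => (n : G) * v * (n : G)⁻¹
  rw [Nat.card_eq_fintype_card (α := N), ← Finset.card_univ, Finset.card_eq_sum_card_image f,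
    Finset.sum_congr rfl fun w hw => ?_, Finset.sum_const, smul_eq_mul]
  obtain ⟨n₀, -, rfl⟩ := Finset.mem_image.mp hw
  rw [Nat.card_eq_fintype_card, ← Fintype.card_coe]
  refine Fintype.card_congr
    { toFun := fun n => ⟨n₀⁻¹ * n.1, ?_⟩
      invFun := fun c => ⟨n₀ * c.1, ?_⟩
      left_inv := fun n => Subtype.ext (by simp)
      right_inv := fun c => Subtype.ext (by simp) }
  · have h := (Finset.mem_filter.mp n.2).2
    simp only [f] at h
    rw [mem_subgroupOf, mem_centralizer_singleton_iff]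
    push_cast
    calc (n₀ : G)⁻¹ * n.1 * v = (n₀ : G)⁻¹ * ((n.1 : G) * v * (n.1 : G)⁻¹) * n.1 := by group
      _ = v * ((n₀ : G)⁻¹ * n.1) := by rw [h]; group
  · refine Finset.mem_filter.mpr ⟨Finset.mem_univ _, ?_⟩
    have h := mem_centralizer_singleton_iff.mp (mem_subgroupOf.mp c.2)
    simp only [f]
    push_cast
    calc (n₀ : G) * c.1 * v * ((n₀ : G) * c.1)⁻¹ = (n₀ : G) * ((c.1 : G) * v) * ((c.1 : G))⁻¹ * (n₀ : G)⁻¹ := by group
      _ = (n₀ : G) * v * (n₀ : G)⁻¹ := by rw [h]; group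

/-- Each nontrivial element of `H` contributes at least the order of a Sylow subgroup. -/
theorem exists_contrib (hM : IsPModular p M) (hHp : IsPGroup p H) (hHab : IsMulCommutative H)
    (hcl : IsExtremelyClosed H) (v : H) (hv : v ≠ 1) :
    ∃ e : ℕ, ∑ w ∈ (Finset.univ : Finset H).erase 1, phi M (w : G) v = (e : ℂ) ∧
      p ^ (Nat.card G).factorization p ≤ e ∧
      (Nat.card H = p ^ (Nat.card G).factorization p →
        (∃ n ∈ normalizer (H : Set G), n * (v : G) * n⁻¹ ≠ v) →
          2 * p ^ (Nat.card G).factorization p ≤ e) := by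
  set N := normalizer (H : Set G) with hN
  set O := (Finset.univ : Finset N).image fun n : N => (n : G) * v * (n : G)⁻¹ with hO
  obtain ⟨m, hm0, hm, hmC⟩ := exists_phi_self hM hHp v.2
  set O' := ((Finset.univ : Finset H).erase 1).filter fun w : H =>
    ∃ n ∈ N, (w : G) = n * v * n⁻¹ with hO'
  have hcard : O'.card = O.card := by
    refine Finset.card_bij (fun w _ => (w : G)) ?_ (fun a _ b _ e => Subtype.ext e) ?_
    · intro w hw
      obtain ⟨n, hn, e⟩ := (Finset.mem_filter.mp hw).2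
      exact Finset.mem_image.mpr ⟨⟨n, hn⟩, Finset.mem_univ _, e.symm⟩
    · intro x hx
      obtain ⟨n, -, rfl⟩ := Finset.mem_image.mp hx
      refine ⟨⟨(n : G) * v * (n : G)⁻¹, (mem_normalizer_iff.mp n.2 v).mp v.2⟩,
        Finset.mem_filter.mpr ⟨Finset.mem_erase.mpr ⟨fun h => hv ?_, Finset.mem_univ _⟩,
          n, n.2, rfl⟩, rfl⟩
      exact Subtype.ext (conj_eq_one_iff.mp (congrArg Subtype.val h))
  refine ⟨O.card * m, ?_, ?_⟩
  · rw [← hcard, Nat.cast_mul, ← hm, ← nsmul_eq_mul, ← Finset.sum_const]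
    rw [← Finset.sum_filter_add_sum_filter_not ((Finset.univ : Finset H).erase 1)
      (fun w : H => ∃ n ∈ N, (w : G) = n * v * n⁻¹), ← hO',
      Finset.sum_eq_zero (s := Finset.filter (fun w : H => ¬ ∃ n ∈ N, (w : G) = n * v * n⁻¹) _),
      add_zero]
    · refine Finset.sum_congr rfl fun w hw => ?_
      obtain ⟨n, -, e⟩ := (Finset.mem_filter.mp hw).2
      rw [e, phi_conj_left]
    · intro w hw
      refine phi_not_isConj hM hHp w.2 v.2 fun hc => (Finset.mem_filter.mp hw).2 ?_
      obtain ⟨g, hg⟩ := isConj_iff.mp hc.symm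
      obtain ⟨K, n, hn, S, -, hres⟩ := exists_split hHp hHab hcl g
      have h1 := hres v v.2
      rw [hg] at h1
      exact ⟨n, hn, S.res_unique (res_of_mem w.2) h1⟩
  obtain ⟨P, hP⟩ := hHp.exists_le_sylow
  have hPN : (P : Subgroup G) ≤ N := le_normalizer_of_isPGroup hcl P.2 hP
  have horb := card_orbit_mul N (v : G)
  rw [← hO] at horb
  set c := Nat.card ↥((centralizer ({(v : G)} : Set G)).subgroupOf N) with hc
  have hdvd : p ^ (Nat.card G).factorization p ∣ O.card * c := by
    rw [horb, ← Sylow.card_eq_multiplicity P]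
    exact card_dvd_of_le hPN
  have hc0 : c ≠ 0 := Nat.card_pos.ne'
  have hO0 : O.card ≠ 0 := by
    intro h; rw [h, zero_mul] at horb; exact Nat.card_pos.ne' horb.symm
  have hcC : c.factorization p ≤ m.factorization p := by
    refine le_trans ?_ hmC
    have hd : c ∣ Nat.card (centralizer ({(v : G)} : Set G)) :=
      Subgroup.card_comap_dvd_of_injective _ _ N.subtype_injective
    exact (Nat.factorization_le_iff_dvd hc0 Nat.card_pos.ne').mpr hd p
  have hQ : p ^ (Nat.card G).factorization p ∣ O.card * m := by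
    rw [hp.out.pow_dvd_iff_le_factorization (mul_ne_zero hO0 hc0),
      Nat.factorization_mul hO0 hc0, Finsupp.add_apply] at hdvd
    rw [hp.out.pow_dvd_iff_le_factorization (mul_ne_zero hO0 hm0),
      Nat.factorization_mul hO0 hm0, Finsupp.add_apply]
    omega
  have hpos : O.card * m ≠ 0 := mul_ne_zero hO0 hm0
  refine ⟨Nat.le_of_dvd (Nat.pos_of_ne_zero hpos) hQ, fun hsyl hmove => ?_⟩
  -- the orbit has order prime to `p` and more than one element
  have hHc : H ≤ centralizer ({(v : G)} : Set G) := fun a ha =>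
    mem_centralizer_singleton_iff.mpr
      (congrArg Subtype.val (hHab.is_comm.comm (⟨a, ha⟩ : H) v))
  have hqc : p ^ (Nat.card G).factorization p ∣ c := by
    rw [← hsyl, ← Nat.card_congr (subgroupOfEquivOfLe (le_normalizer (H := H))).toEquiv]
    exact card_dvd_of_le fun a ha => hHc ha
  have hqm : p ^ (Nat.card G).factorization p ≤ m := by
    refine Nat.le_of_dvd (Nat.pos_of_ne_zero hm0) ?_
    rw [hp.out.pow_dvd_iff_le_factorization hm0]
    exact ((hp.out.pow_dvd_iff_le_factorization hc0).mp hqc).trans hcC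
  have h2 : 2 ≤ O.card := by
    obtain ⟨n, hn, hne⟩ := hmove
    exact Finset.one_lt_card.mpr ⟨_, Finset.mem_image.mpr ⟨⟨n, hn⟩, Finset.mem_univ _, rfl⟩,
      _, Finset.mem_image.mpr ⟨1, Finset.mem_univ _, rfl⟩, by simpa using hne⟩
  exact Nat.mul_le_mul h2 hqm

/-- If `H` generates a normal subgroup equal to the whole group and constancy holds on the
sections, then `H` is a Sylow subgroup which is central in its normalizer. -/
theorem sylow_and_central (hM : IsPModular p M) (hp2 : p ≠ 2) (hHp : IsPGroup p H)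
    (hHab : IsMulCommutative H) (hcl : IsExtremelyClosed H) (hc : Const p M H)
    (hR : normalClosure (H : Set G) = ⊤) (hne : H ≠ ⊥) :
    Nat.card H = p ^ (Nat.card G).factorization p ∧
      normalizer (H : Set G) ≤ centralizer (H : Set G) := by
  have hlt := energy_lt hM hp2 hHp hHab hcl hc hR hne
  set q := Nat.card H with hq
  set Q := p ^ (Nat.card G).factorization p with hQ
  set Hs := (Finset.univ : Finset H).erase 1 with hHs
  have hHsc : Hs.card + 1 = q := by
    rw [hHs, Finset.card_erase_add_one (Finset.mem_univ _), Finset.card_univ, hq,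
      Nat.card_eq_fintype_card]
  have hex : ∀ v : H, ∃ e : ℕ, v ≠ 1 →
      ∑ w ∈ Hs, phi M (w : G) v = (e : ℂ) ∧ Q ≤ e ∧
      (q = Q → (∃ n ∈ normalizer (H : Set G), n * (v : G) * n⁻¹ ≠ v) → 2 * Q ≤ e) := by
    intro v
    by_cases hv : v = 1
    · exact ⟨0, fun h => absurd hv h⟩
    · obtain ⟨e, he⟩ := exists_contrib hM hHp hHab hcl v hv
      exact ⟨e, fun _ => he⟩
  choose e he using hex
  have hE : energy M H = ((∑ v ∈ Hs, e v : ℕ) : ℝ) := by
    refine Complex.ofReal_injective ?_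
    rw [ofReal_energy hM hHp]
    push_cast
    exact Finset.sum_congr rfl fun v hv => (he v (Finset.mem_erase.mp hv).1).1
  obtain ⟨k, hk⟩ := hHp.exists_card_eq
  obtain ⟨k, rfl⟩ : ∃ j, k = j + 1 := Nat.exists_eq_succ_of_ne_zero fun h => hne
    (Subgroup.card_eq_one.mp (by rw [hk, h, pow_zero]))
  have hqQ : q ∣ Q := by
    obtain ⟨P, hP⟩ := hHp.exists_le_sylow
    rw [hQ, ← Sylow.card_eq_multiplicity P]
    exact card_dvd_of_le hP
  have hp3 : (3 : ℝ) ≤ p := by
    have h2 := hp.out.two_le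
    exact_mod_cast (show 3 ≤ p by omega)
  have hqp : (p : ℝ) ≤ q := by
    rw [hq, hk]; exact_mod_cast Nat.le_self_pow k.succ_ne_zero p
  have hpos : 0 < (q : ℝ) * ((p : ℝ) - 2) - ((p : ℝ) - 1) := by
    have h1 := mul_le_mul_of_nonneg_right hqp (show (0 : ℝ) ≤ (p : ℝ) - 2 by linarith)
    have h2 := mul_le_mul_of_nonneg_right hp3 (show (0 : ℝ) ≤ (p : ℝ) - 2 by linarith)
    linarith
  by_cases hqeq : q = Q
  · refine ⟨hqeq, ?_⟩
    by_contra hnc
    set F := H ⊓ centralizer ((normalizer (H : Set G) : Subgroup G) : Set G) with hF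
    have hFH : F < H := lt_of_le_of_ne inf_le_left fun h => hnc fun n hn =>
      mem_centralizer_iff.mpr fun a ha =>
        (mem_centralizer_iff.mp ((h.symm.le ha : a ∈ F).2) n hn).symm
    obtain ⟨r, hr⟩ := (hHp.to_le hFH.le).exists_card_eq
    have hrlt : r < k + 1 := by
      by_contra hle
      push Not at hle
      exact hFH.ne (Subgroup.eq_of_le_of_card_ge hFH.le (by
        rw [hr, hk]; exact Nat.pow_le_pow_right hp.out.pos hle))
    have hpr : p * Nat.card F ≤ q := by
      rw [hr, hq, hk, ← pow_succ']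
      exact Nat.pow_le_pow_right hp.out.pos hrlt
    set A := Hs.filter fun v : H => (v : G) ∉ F with hA
    have hAc : A.card + Nat.card F = q := by
      have h1 : (Finset.univ.filter fun v : H => (v : G) ∈ F).card = Nat.card F := by
        rw [Nat.card_eq_fintype_card, ← Finset.card_univ]
        refine Finset.card_bij (fun v hv => ⟨(v : G), (Finset.mem_filter.mp hv).2⟩)
          (fun _ _ => Finset.mem_univ _) (fun a _ b _ h => Subtype.ext (congrArg Subtype.val h :))
          (fun x _ => ⟨⟨x, x.2.1⟩, Finset.mem_filter.mpr ⟨Finset.mem_univ _, x.2⟩, rfl⟩)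
      have h2 : A = Finset.univ.filter fun v : H => ¬ (v : G) ∈ F := by
        ext v
        simp only [hA, hHs, Finset.mem_filter, Finset.mem_erase, Finset.mem_univ, and_true,
          true_and, and_iff_right_iff_imp]
        rintro hv rfl
        exact hv (one_mem F)
      rw [h2, ← h1, add_comm, Finset.card_filter_add_card_filter_not, Finset.card_univ, hq,
        Nat.card_eq_fintype_card]
    have hsum : Q * (Hs.card + A.card) ≤ ∑ v ∈ Hs, e v := by
      rw [mul_add, mul_comm Q, mul_comm Q, ← smul_eq_mul, ← smul_eq_mul, ← Finset.sum_const,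
        ← Finset.sum_const, hA, Finset.sum_filter, ← Finset.sum_add_distrib]
      refine Finset.sum_le_sum fun v hv => ?_
      obtain ⟨-, h1, h2⟩ := he v (Finset.mem_erase.mp hv).1
      split_ifs with hvF
      · simpa using h1
      · rw [← two_mul]
        refine h2 hqeq ?_
        by_contra hfix
        push Not at hfix
        exact hvF ⟨v.2, mem_centralizer_iff.mpr fun n hn =>
          mul_inv_eq_iff_eq_mul.mp (hfix n hn)⟩
    have hEge : (q : ℝ) * ((q : ℝ) - 1 + ((q : ℝ) - Nat.card F)) ≤ energy M H := by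
      rw [hE]
      have h1 : ((Hs.card : ℕ) : ℝ) + 1 = q := by exact_mod_cast hHsc
      have h2 : ((A.card : ℕ) : ℝ) + (Nat.card F : ℝ) = q := by exact_mod_cast hAc
      have h3 : (Q : ℝ) * ((Hs.card : ℝ) + A.card) ≤ ((∑ v ∈ Hs, e v : ℕ) : ℝ) := by
        exact_mod_cast hsum
      rw [← hqeq] at h3
      refine le_trans (le_of_eq ?_) h3
      congr 1
      linarith
    have hr1 : (1 : ℝ) ≤ Nat.card F := by exact_mod_cast (Nat.card_pos : 0 < Nat.card F)
    have hprR : (p : ℝ) * Nat.card F ≤ q := by exact_mod_cast hpr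
    have h4 := mul_le_mul_of_nonneg_right hEge hpos.le
    have hd : 2 ≤ (q : ℝ) - Nat.card F := by nlinarith
    have h5 : (q : ℝ) - 1 ≤ ((q : ℝ) - Nat.card F) *
        ((q : ℝ) * ((p : ℝ) - 2) - ((p : ℝ) - 1)) := by
      have h6 : ((q : ℝ) - 1) * 1 ≤ ((q : ℝ) - 1) * ((p : ℝ) - 2) :=
        mul_le_mul_of_nonneg_left (by linarith) (by linarith)
      have h7 := mul_le_mul hd (le_refl ((q : ℝ) * ((p : ℝ) - 2) - ((p : ℝ) - 1))) hpos.le
        (by linarith)
      nlinarith
    have hq0 : (0 : ℝ) ≤ q := by linarith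
    have h8 := mul_le_mul_of_nonneg_left h5 hq0
    nlinarith
  · exfalso
    have hpqQ : p * q ∣ Q := by
      obtain ⟨i, hi, hi'⟩ := (Nat.dvd_prime_pow hp.out).mp hqQ
      rw [hi'] at hqeq ⊢
      rw [← pow_succ']
      refine pow_dvd_pow p (Nat.lt_of_le_of_ne hi fun h => hqeq ?_)
      rw [hQ, h]
    have hsum : Hs.card * (p * q) ≤ ∑ v ∈ Hs, e v := by
      rw [← smul_eq_mul, ← Finset.sum_const]
      refine Finset.sum_le_sum fun v hv => ?_
      exact (Nat.le_of_dvd (pow_pos hp.out.pos _) hpqQ).trans (he v (Finset.mem_erase.mp hv).1).2.1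
    have hEge : ((q : ℝ) - 1) * ((p : ℝ) * q) ≤ energy M H := by
      rw [hE]
      have h1 : ((Hs.card : ℕ) : ℝ) + 1 = q := by exact_mod_cast hHsc
      have h2 : ((Hs.card : ℕ) : ℝ) * ((p : ℝ) * q) ≤ ((∑ v ∈ Hs, e v : ℕ) : ℝ) := by
        exact_mod_cast hsum
      refine le_trans (le_of_eq ?_) h2
      rw [← h1]
      ring
    have h4 := mul_le_mul_of_nonneg_right hEge hpos.le
    have h5 : ((q : ℝ) - 1) * ((p : ℝ) - 2) ≤
        (p : ℝ) * ((q : ℝ) * ((p : ℝ) - 2) - ((p : ℝ) - 1)) := by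
      nlinarith [mul_le_mul_of_nonneg_right hqp
        (show (0 : ℝ) ≤ ((p : ℝ) - 1) * ((p : ℝ) - 2) by nlinarith),
        mul_nonneg (show (0 : ℝ) ≤ (p : ℝ) - 3 by linarith)
          (sq_nonneg ((p : ℝ) - 2))]
    have h6 := mul_le_mul_of_nonneg_left h5
      (show (0 : ℝ) ≤ ((q : ℝ) - 1) * q by nlinarith)
    nlinarith

end Cfsg.Agent.ExtClosed29
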